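import Mathlib
import Cfsg.Agent.Perm.NF4
import Cfsg.Agent.Classical.AutPSL2
import Cfsg.Prelude.Def_Perm

/-! The one-dimensional affine and semi-affine groups. -/

set_option autoImplicit false

namespace Cfsg.Agent.DP

open Subgroup

section
variable {F : Type*} [Field F]

theorem semi_unique {a b a' b' : F} {φ φ' : F ≃+* F} (ha : a ≠ 0)
    (h : ∀ x, a * φ x + b = a' * φ' x + b') : φ = φ' := by
  have h0 : b = b' := by simpa using h 0
  have h1 : a = a' := by simpa [h0] using h 1
  exact RingEquiv.ext fun x => mul_left_cancel₀ ha (by simpa [h0, ← h1] using h x)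

/-- The field automorphism attached to a semi-affine map. -/
noncomputable def semiAut : semiaffineGroup F →* (F ≃+* F) :=
  MonoidHom.mk' (fun σ => σ.2.choose_spec.choose_spec.choose) fun σ τ => by
    have h1 := σ.2.choose_spec.choose_spec.choose_spec
    have h2 := τ.2.choose_spec.choose_spec.choose_spec
    have h3 := (σ * τ).2.choose_spec.choose_spec.choose_spec
    refine semi_unique (a' := σ.2.choose * σ.2.choose_spec.choose_spec.choose τ.2.choose)
      (b' := σ.2.choose * σ.2.choose_spec.choose_spec.choose τ.2.choose_spec.choose +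
        σ.2.choose_spec.choose) (Units.ne_zero _) fun x => (h3 x).symm.trans ?_
    rw [coe_mul, Equiv.Perm.mul_apply, h1, h2, map_add, map_mul, RingAut.mul_apply]
    ring

theorem semiAut_eq {σ : semiaffineGroup F} {a b : F} {φ : F ≃+* F}
    (h : ∀ x, (σ : Equiv.Perm F) x = a * φ x + b) : semiAut σ = φ :=
  semi_unique (Units.ne_zero _) fun x => (σ.2.choose_spec.choose_spec.choose_spec x).symm.trans (h x)

theorem affine_le : affineGroup F ≤ semiaffineGroup F := fun _ ⟨a, b, h⟩ => ⟨a, b, .refl F, h⟩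

theorem ker_semiAut : (semiAut (F := F)).ker = (affineGroup F).subgroupOf (semiaffineGroup F) := by
  ext σ
  refine ⟨fun h => ?_, fun ⟨a, b, h⟩ => semiAut_eq (φ := 1) h⟩
  obtain ⟨a, b, φ, k⟩ := σ.2
  obtain rfl : φ = 1 := (semiAut_eq k).symm.trans h
  exact ⟨a, b, k⟩

theorem card_affine [Finite F] : Nat.card (affineGroup F) = (Nat.card F - 1) * Nat.card F := by
  rw [← Nat.card_units, ← Nat.card_prod]
  refine (Nat.card_eq_of_bijective (fun z : Fˣ × F => (⟨z.1.mulLeft.trans (Equiv.addRight z.2),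
    z.1, z.2, fun _ => rfl⟩ : affineGroup F)) ⟨fun z w e => ?_, fun ⟨σ, a, b, h⟩ =>
      ⟨(a, b), Subtype.ext (Equiv.ext fun x => (h x).symm)⟩⟩).symm
  have h : ∀ x : F, z.1 * x + z.2 = w.1 * x + w.2 := fun x => congrArg (fun σ => σ.1 x) e
  have h0 : z.2 = w.2 := by simpa using h 0
  exact Prod.ext (Units.ext (by simpa [h0] using h 1)) h0

theorem card_semi [Finite F] {p n : ℕ} [Fact p.Prime] (hF : Nat.card F = p ^ n) :
    Nat.card (semiaffineGroup F) = (p ^ n - 1) * p ^ n * n := by
  have hs : Function.Surjective (semiAut (F := F)) := fun φ =>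
    ⟨⟨φ.toEquiv, 1, 0, φ, by simp⟩, semiAut_eq (a := 1) (b := 0) (by simp)⟩
  rw [← (semiAut (F := F)).ker.card_mul_index, index_ker, MonoidHom.range_eq_top.2 hs, card_top,
    Classical.AutPSL2.card_ringAut hF, ker_semiAut,
    Nat.card_congr (subgroupOfEquivOfLe affine_le).toEquiv, card_affine, hF]

/-- A subgroup of the semi-affine group maps to the field automorphisms with affine kernel. -/
theorem exists_card [Finite F] {p n : ℕ} [Fact p.Prime] (hF : Nat.card F = p ^ n) {G : Type*} [Group G]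
    {f : G →* semiaffineGroup F} (hf : Function.Injective f) :
    ∃ a b, a ∣ (p ^ n - 1) * p ^ n ∧ b ∣ n ∧ Nat.card G = a * b ∧
      (a = (p ^ n - 1) * p ^ n → b = 1 → Nonempty (G ≃* affineGroup F)) := by
  have h1 : Nat.card (semiAut.comp f).ker ∣ Nat.card (affineGroup F) := by
    refine card_dvd_of_injective (((semiaffineGroup F).subtype.comp (f.comp (Subgroup.subtype _))).codRestrict
      _ fun x => (ker_semiAut.le (x.2 : f x ∈ semiAut.ker) :)) fun x y e =>
        Subtype.ext (hf (Subtype.ext (congrArg Subtype.val e :)))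
  rw [card_affine, hF] at h1
  refine ⟨_, _, h1, ?_, (semiAut.comp f).ker.card_mul_index.symm, fun ha hb => ?_⟩
  · rw [index_ker, ← Classical.AutPSL2.card_ringAut hF]; exact card_subgroup_dvd_card _
  · have hk := index_eq_one.1 hb
    haveI : Finite G := Finite.of_injective f hf
    refine ⟨.ofBijective (((semiaffineGroup F).subtype.comp f).codRestrict _ fun x =>
      (ker_semiAut.le (hk.ge (mem_top x) : f x ∈ semiAut.ker) :)) ?_⟩
    refine (Nat.bijective_iff_injective_and_card _).2 ⟨fun x y e =>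
      hf (Subtype.ext (congrArg Subtype.val e :)), ?_⟩
    rw [card_affine, hF, ← ha, hk, card_top]

theorem exists_emb {G : Type*} [Group G] {P X : Subgroup G} [P.Normal] (hc : P.IsComplement' X)
    (hC : centralizer (P : Set G) ≤ P) (e : P ≃ F) (he : ∀ u v, e (u * v) = e u + e v)
    (h : ∀ x ∈ X, ∃ (a : F) (σ : F ≃+* F), ∀ v : P, e (MulAut.conjNormal x v) = a * σ (e v)) :
    ∃ f : G →* semiaffineGroup F, Function.Injective f := by
  have e1 : e 1 = 0 := by simpa using he 1 1
  let β : P ≃ G ⧸ X := hc.leftQuotientEquiv.symm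
  have hβ : ∀ v : P, β v = ((v : G) : G ⧸ X) := fun v => by
    rw [← hc.quotientGroupMk_leftQuotientEquiv (β v)]; simp [β]
  let f₀ := (β.symm.trans e).permCongrHom.toMonoidHom.comp (MulAction.toPermHom G (G ⧸ X))
  have hf : ∀ (u : P) (x : X) (v : P), f₀ (u * x) (e v) = e (MulAut.conjNormal (x : G) v) + e u := by
    intro u x v
    rw [add_comm, ← he]
    refine congrArg e (β.symm_apply_eq.2 ?_)
    simp only [Equiv.symm_trans_apply, Equiv.symm_symm, Equiv.symm_apply_apply, hβ,
      MulAction.toPermHom_apply, MulAction.toPerm_apply, MulAction.Quotient.smul_coe, smul_eq_mul]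
    refine QuotientGroup.eq.2 ?_
    simpa [mul_assoc] using X.inv_mem x.2
  refine ⟨f₀.codRestrict _ fun g => ?_, (injective_iff_map_eq_one _).2 fun g hg => ?_⟩
  · obtain ⟨⟨u, x⟩, rfl⟩ := hc.2 g
    obtain ⟨a, σ, k⟩ := h x x.2
    have ha : a ≠ 0 := by
      rintro rfl
      have := k ((MulAut.conjNormal (x : G)).symm (e.symm 1))
      simp at this
    exact ⟨Units.mk0 a ha, e u, σ, fun y => by
      obtain ⟨v, rfl⟩ := e.surjective y
      exact (hf u x v).trans (by rw [k]; rfl)⟩
  · obtain ⟨⟨u, x⟩, rfl⟩ := hc.2 g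
    have k : ∀ v : P, e v = e (MulAut.conjNormal (x : G) v) + e u := fun v =>
      (congrArg (fun σ => σ.1 (e v)) hg).symm.trans (hf u x v)
    have hu : u = 1 := e.injective (by simpa [e1] using (k 1).symm)
    have hx : (x : G) ∈ P := hC fun v hv => by
      have := k ⟨v, hv⟩
      rw [hu, e1, add_zero] at this
      replace := congrArg Subtype.val (e.injective this)
      exact mul_inv_eq_iff_eq_mul.1 this.symm |>.symm
    have := mem_bot.1 (hc.disjoint.le_bot ⟨hx, x.2⟩)
    simp [hu, this]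

end

/-- Huppert's theorem for groups of automorphisms. -/
theorem lin {P : Type*} [CommGroup P] [Finite P] [Nontrivial P] {p : ℕ} [Fact p.Prime]
    (hP : ∀ v : P, v ^ p = 1) (Y : Subgroup (MulAut P)) [Group.IsSolvable Y]
    (ht : ∀ v w : P, v ≠ 1 → w ≠ 1 → ∃ y ∈ Y, y v = w) :
    (∃ (F : Type) (_ : Field F) (_ : Fintype F) (e : P ≃ F), (∀ u v, e (u * v) = e u + e v) ∧
      ∀ y ∈ Y, ∃ (a : F) (σ : F ≃+* F), ∀ v, e (y v) = a * σ (e v)) ∨
      Nat.card P ∈ ({9, 25, 49, 121, 529, 81} : Set ℕ) := by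
  letI : DistribMulAction Y (Additive P) :=
    { smul := fun y v => Additive.ofMul (y.1 v.toMul)
      one_smul := fun _ => rfl
      mul_smul := fun _ _ _ => rfl
      smul_zero := fun y => map_one y.1
      smul_add := fun y => map_mul y.1 }
  have : FaithfulSMul Y (Additive P) := ⟨fun h => Subtype.ext (MulEquiv.ext h)⟩
  have htr : ∀ v w : Additive P, v ≠ 0 → w ≠ 0 → ∃ g : Y, g • v = w := fun v w hv hw =>
    let ⟨y, hy, e⟩ := ht v w hv hw; ⟨⟨y, hy⟩, e⟩
  obtain ⟨A, hA⟩ := Perm.exists_maxAb (G := Y)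
  have := hA.normal
  obtain ⟨F, _, _, _, σ, hF⟩ := Perm.exists_fData (V := Additive P)
    (fun v w hv hw => (htr v w hv hw).imp fun _ => Or.inl) A hA.comm
  by_cases hd : Module.finrank F (Additive P) = 1
  · obtain ⟨e, he⟩ := hF.semilinear hd
    exact .inl ⟨F, _, inferInstance, Additive.ofMul.trans e.toEquiv, fun u v => map_add e _ _,
      fun y hy => (he ⟨y, hy⟩).imp fun a ha => ⟨σ ⟨y, hy⟩, ha⟩⟩
  · exact .inr (Perm.huppert (V := Additive P) hP htr hA hF hd)

end Cfsg.Agent.DP
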