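import Mathlib
import Cfsg.Agent.S4020
import Cfsg.Agent.Gs.FD
import Cfsg.Agent.FGS.CycSyl
import Cfsg.Agent.Fil.A
import Cfsg.Agent.Classical.Borel2

/-! Groups in which `p`-subgroups of the same order are conjugate. -/

set_option autoImplicit false
set_option linter.unusedSectionVars false

namespace Cfsg.Agent.DP

open Subgroup Cfsg.Agent.GW Cfsg.Agent.LocalEven Cfsg.Agent.BG Cfsg.Agent.Gs
open scoped commutatorElement MatrixGroups

variable {G : Type*} [Group G] [Finite G] {p : ℕ} {P V L : Subgroup G}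

def D1 (p : ℕ) (G : Type*) [Group G] : Prop :=
  ∀ H K : Subgroup G, IsPGroup p H → IsPGroup p K → Nat.card H = Nat.card K → ∃ g : G, K = cj g H

theorem map_cj' {X : Type*} [Group X] (f : G →* X) (g : G) (H : Subgroup G) :
    (cj g H).map f = cj (f g) (H.map f) := by
  simp only [cj, map_map]
  congr 1
  ext; simp

theorem card_comap' {X : Type*} [Group X] {f : G →* X} (hf : Function.Surjective f) (H : Subgroup X) :
    Nat.card (H.comap f) = Nat.card f.ker * Nat.card H := by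
  have := (f.ker.subgroupOf (H.comap f)).card_mul_index
  rw [Nat.card_congr (subgroupOfEquivOfLe (ker_le_comap f H)).toEquiv, ← relIndex, relIndex_ker,
    map_comap_eq_self_of_surjective hf] at this
  exact this.symm

theorem D1.map [Fact p.Prime] (h : D1 p G) {X : Type*} [Group X] (f : G →* X)
    (hf : Function.Surjective f) : D1 p X := fun H K hH hK hc => by
  obtain ⟨P, hP⟩ := exists_isSylowIn p (H.comap f)
  obtain ⟨Q, hQ⟩ := exists_isSylowIn p (K.comap f)
  obtain ⟨g, rfl⟩ := h P Q hP.pgrp hQ.pgrp (by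
    rw [hP.card_eq, hQ.card_eq, card_comap' hf, card_comap' hf, hc])
  have h1 := hP.map f
  have h2 := hQ.map f
  rw [map_comap_eq_self_of_surjective hf] at h1 h2
  exact ⟨f g, by rw [← h1.eq_of_isPGroup hH, ← h2.eq_of_isPGroup hK, map_cj']⟩

theorem D1.conj [Fact p.Prime] (h : D1 p G) {x y : G} (hx : orderOf x = p) (hy : orderOf y = p) :
    ∃ g : G, g⁻¹ * y * g ∈ zpowers x := by
  obtain ⟨g, e⟩ := h (zpowers x) (zpowers y) (.of_card (n := 1) (by simp [hx]))
    (.of_card (n := 1) (by simp [hy])) (by simp [hx, hy])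
  exact ⟨g, mem_cj.1 (e ▸ mem_zpowers y)⟩

theorem D1.mem [Fact p.Prime] (h : D1 p G) [L.Normal] (hd : p ∣ Nat.card L) {y : G} (hy : y ^ p = 1) :
    y ∈ L := by
  by_cases y1 : y = 1
  · exact y1 ▸ one_mem _
  obtain ⟨x, hx, ho⟩ := exists_mem_orderOf_eq hd
  obtain ⟨g, hg⟩ := h.conj ho (orderOf_eq_prime hy y1)
  simpa [mul_assoc] using Normal.conj_mem inferInstance _ (zpowers_le.2 hx hg) g

theorem card_pairs [Fact p.Prime] (hp : ∀ x ∈ P, x ^ p = 1) :
    {z : G × G | z.1 ∈ P ∧ z.2 ∈ P ∧ z.1 ≠ 1 ∧ z.2 ∉ zpowers z.1}.ncard =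
      (Nat.card P - 1) * (Nat.card P - p) := by
  classical
  haveI := Fintype.ofFinite G
  rw [Set.ncard_eq_toFinset_card', Finset.card_eq_sum_card_fiberwise (f := Prod.fst)
    (t := ((P : Set G) \ {1}).toFinset) fun z hz => by
      simp only [Set.coe_toFinset] at hz ⊢; exact ⟨hz.1, hz.2.2.1⟩,
    Finset.sum_const_nat (m := Nat.card P - p), ← Set.ncard_eq_toFinset_card',
    Set.ncard_diff_singleton_of_mem (one_mem P)]
  · rfl
  intro x hx
  rw [Set.mem_toFinset] at hx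
  have h1 : (zpowers x : Set G).ncard = p := by
    rw [← orderOf_eq_prime (hp x hx.1) hx.2, ← Nat.card_zpowers]; rfl
  rw [← h1, show Nat.card P = (P : Set G).ncard from rfl, ← Set.ncard_diff (zpowers_le.2 hx.1),
    Set.ncard_eq_toFinset_card']
  refine Finset.card_bij (fun z _ => z.2) (fun z hz => ?_) (fun z hz w hw e => ?_) fun y hy => ?_
  · simp only [Finset.mem_filter, Set.mem_toFinset] at hz ⊢
    exact ⟨hz.1.2.1, hz.2 ▸ hz.1.2.2.2⟩
  · exact Prod.ext ((Finset.mem_filter.1 hz).2.trans (Finset.mem_filter.1 hw).2.symm) e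
  · rw [Set.mem_toFinset] at hy
    exact ⟨(x, y), Finset.mem_filter.2 ⟨Set.mem_toFinset.2 ⟨hx.1, hy.1, hx.2, hy.2⟩, rfl⟩, rfl⟩

theorem card_sup_pair [Fact p.Prime] {x y : G} (hx : x ^ p = 1) (hy : y ^ p = 1) (hc : x * y = y * x)
    (x1 : x ≠ 1) (h : y ∉ zpowers x) : Nat.card (zpowers x ⊔ zpowers y : Subgroup G) = p ^ 2 := by
  have y1 : y ≠ 1 := fun e => h (e ▸ one_mem _)
  have h1 : Nat.card (zpowers y) = p := by rw [Nat.card_zpowers, orderOf_eq_prime hy y1]
  rw [Core.card_sup_of_disjoint (zpowers_le.2 (cent_le_norm' _ (by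
    rw [cent_zpowers]; exact mem_cz.2 hc.symm))), h1, Nat.card_zpowers, orderOf_eq_prime hx x1, sq]
  haveI : Fact (Nat.card (zpowers y)).Prime := h1 ▸ inferInstance
  rcases ((zpowers x).subgroupOf (zpowers y)).eq_bot_or_eq_top_of_prime_card with e | e
  · exact (subgroupOf_eq_bot.1 e)
  · exact absurd (subgroupOf_eq_top.1 e (mem_zpowers y)) h

theorem card_sub2 [Fact p.Prime] (hp : ∀ x ∈ P, x ^ p = 1) (hc : P ≤ 𝐂(P)) :
    {W : Subgroup G | W ≤ P ∧ Nat.card W = p ^ 2}.ncard * ((p ^ 2 - 1) * (p ^ 2 - p)) =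
      (Nat.card P - 1) * (Nat.card P - p) := by
  classical
  haveI := Fintype.ofFinite G
  haveI := Fintype.ofFinite (Subgroup G)
  have k : ∀ x ∈ P, ∀ y ∈ P, x ≠ 1 → y ∉ zpowers x →
      Nat.card (zpowers x ⊔ zpowers y : Subgroup G) = p ^ 2 := fun x hx y hy =>
    card_sup_pair (hp x hx) (hp y hy) (mem_centralizer_iff.1 (hc hy) x hx)
  rw [← card_pairs hp, Set.ncard_eq_toFinset_card' {z : G × G | _},
    Finset.card_eq_sum_card_fiberwise (f := fun z : G × G => zpowers z.1 ⊔ zpowers z.2)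
    (t := {W : Subgroup G | W ≤ P ∧ Nat.card W = p ^ 2}.toFinset) fun z hz => by
      simp only [Set.coe_toFinset] at hz ⊢
      exact ⟨sup_le (zpowers_le.2 hz.1) (zpowers_le.2 hz.2.1), k _ hz.1 _ hz.2.1 hz.2.2.1 hz.2.2.2⟩,
    Finset.sum_const_nat (m := (p ^ 2 - 1) * (p ^ 2 - p)), ← Set.ncard_eq_toFinset_card']
  intro W hW
  rw [Set.mem_toFinset] at hW
  rw [← hW.2, ← card_pairs fun x hx => hp x (hW.1 hx), Set.ncard_eq_toFinset_card']
  congr 1
  ext z
  simp only [Finset.mem_filter, Set.mem_toFinset, Set.mem_setOf_eq]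
  refine ⟨fun ⟨h1, h2⟩ => ⟨h2 ▸ mem_sup_left (mem_zpowers _), h2 ▸ mem_sup_right (mem_zpowers _),
    h1.2.2⟩, fun h1 => ⟨⟨hW.1 h1.1, hW.1 h1.2.1, h1.2.2⟩, eq_of_le_of_card_le
      (sup_le (zpowers_le.2 h1.1) (zpowers_le.2 h1.2.1)) ?_⟩⟩
  rw [hW.2, k _ (hW.1 h1.1) _ (hW.1 h1.2.1) h1.2.2.1 h1.2.2.2]

theorem D1.fus [Fact p.Prime] (h : D1 p G) (hP : IsSylowIn p P ⊤) (hc : P ≤ 𝐂(P)) (hV : V ≤ P)
    {W : Subgroup G} (hW : W ≤ P) (e : Nat.card V = Nat.card W) : ∃ n ∈ 𝐍(P), W = cj n V := by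
  obtain ⟨g, rfl⟩ := h V W (hP.pgrp.to_le hV) (hP.pgrp.to_le hW) e
  have h1 : IsSylowIn p P 𝐂(V) := hP.mono (hc.trans (cent_anti hV)) le_top
  have h2 : IsSylowIn p (cj g⁻¹ P) 𝐂(V) := (hP.cj_of_mem (mem_top _)).mono (by
    rw [cj_le_iff, inv_inv, cj_centralizer]; exact hc.trans (cent_anti hW)) le_top
  obtain ⟨c, hc', e'⟩ := h1.conj h2
  refine ⟨g * c, cj_eq_self_iff.1 (by rw [cj_mul, e', cj_cj, mul_inv_cancel, cj_one]), ?_⟩
  rw [cj_mul, cj_eq_of_mem_normalizer (cent_le_norm' _ hc')]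

theorem D1.orbit [Fact p.Prime] (h : D1 p G) (hP : IsSylowIn p P ⊤) (hc : P ≤ 𝐂(P)) (hV : V ≤ P) :
    {W : Subgroup G | W ≤ P ∧ Nat.card W = Nat.card V}.ncard = 𝐍(V).relIndex 𝐍(P) := by
  letI : MulAction 𝐍(P) (Subgroup G) :=
    { smul := fun n W => cj n W
      one_smul := cj_one
      mul_smul := fun a b => cj_mul (a : G) b }
  have h1 : MulAction.stabilizer 𝐍(P) V = 𝐍(V).subgroupOf 𝐍(P) := Subgroup.ext fun _ => cj_eq_self_iff
  rw [relIndex, ← h1, MulAction.index_stabilizer]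
  congr 1
  ext W
  refine ⟨fun k => ?_, ?_⟩
  · obtain ⟨n, hn, e⟩ := h.fus hP hc hV k.1 k.2.symm
    exact ⟨⟨n, hn⟩, e.symm⟩
  · rintro ⟨n, rfl⟩
    exact ⟨(cj_mono _ hV).trans (cj_eq_of_mem_normalizer n.2).le, card_cj _ _⟩

/-- The number of subgroups of order `p²` divides the order of the automizer. -/
theorem D1.count [Fact p.Prime] (h : D1 p G) (hP : IsSylowIn p P ⊤) (hp : ∀ x ∈ P, x ^ p = 1)
    (hc : P ≤ 𝐂(P)) (h2 : p ^ 2 ≤ Nat.card P) : ∃ s, s ∣ 𝐂(P).relIndex 𝐍(P) ∧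
      s * ((p ^ 2 - 1) * (p ^ 2 - p)) = (Nat.card P - 1) * (Nat.card P - p) := by
  obtain ⟨V, hV⟩ := Sylow.exists_subgroup_card_pow_prime_of_le_card Fact.out hP.pgrp h2
  have h1 := (card_map_of_injective (K := V) P.subtype_injective).trans hV
  refine ⟨_, ?_, card_sub2 hp hc⟩
  rw [← h1, h.orbit hP hc (map_subtype_le V)]
  exact relIndex_dvd_of_le_left _ ((cent_anti (map_subtype_le V)).trans (cent_le_norm' _))

/-- A simple normal subgroup is a Hall subgroup. -/
theorem cop (h : ∀ p, p.Prime → D1 p G) (h2 : ∀ (x : G) k, x ^ 2 ^ k = 1 → x * x = 1) [L.Normal]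
    (hs : IsSimpleGroup L) (hn : ¬ IsMulCommutative L) : (Nat.card L).Coprime L.index := by
  refine Nat.coprime_of_dvd fun r hr hd hi => ?_
  haveI := Fact.mk hr
  obtain ⟨P⟩ : Nonempty (Sylow r G) := inferInstance
  have hP : ¬ (P : Subgroup G) ≤ L := fun k => P.not_dvd_index (hi.trans (index_dvd_of_le k))
  rcases S4020.result h P with k | k | ⟨⟨e⟩⟩
  · rcases FGS.npc_or_le_commutator (P.subtype (le_sup_right (a := L)))
      (FGS.isCyclic_sylow_subtype P k _) with k' | k'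
    · obtain ⟨Q, N, k''⟩ := (Transfer.hasNormalPComplement_subgroupOf_iff le_sup_left).1
        (Transfer.hasNormalPComplement_subgroup k' (L.subgroupOf _))
      exact Fil.no_compl hn Q hd ⟨N, k''⟩
    · refine hP fun x hx => ?_
      have h1 := mem_map_of_mem (Subgroup.subtype _) (k' (x := ⟨x, mem_sup_right hx⟩) hx)
      rw [map_subtype_commutator] at h1
      refine Amb.der_sup_le le_normalizer_of_normal (commutator_le_left _ _) (commutator_le_left _ _)
        ((Amb.le_cent_iff_comm_eq_bot.1 ?_).le.trans bot_le) h1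
      exact le_centralizer_iff_isMulCommutative.2 k.isMulCommutative
  · exact hP fun x hx => (h r hr).mem hd (k.2 x hx)
  · have h8 := Nat.card_congr e.toEquiv
    obtain ⟨n, hn⟩ := P.2.exists_card_eq
    rw [hn, Nat.card_eq_fintype_card, QuaternionGroup.card] at h8
    obtain rfl : r = 2 := (Nat.prime_dvd_prime_iff_eq hr Nat.prime_two).1 (hr.dvd_of_dvd_pow (n := 3) (by
      rcases n with _ | n
      · simp at h8
      · exact (dvd_pow_self r n.succ_ne_zero).trans h8.dvd))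
    refine hP fun x hx => (h 2 hr).mem hd ?_
    obtain ⟨j, hj⟩ := isPGroup_iff_mem.1 P.2 x hx
    rw [sq, h2 x j hj]

theorem index_dvd_out (h : AS L) {X : Type*} [Group X] [Finite X] (e : L ≃* X) :
    L.index ∣ Nat.card (Out X) ∧ (L.index = Nat.card (Out X) → Nonempty (G ≃* MulAut X)) := by
  obtain ⟨f, hf, hL⟩ := h.exists_rep e
  have hk : ((QuotientGroup.mk' (Inn X)).comp f).ker = L := by
    rw [← MonoidHom.comap_ker, QuotientGroup.ker_mk', ← hL, comap_map_eq_self_of_injective hf]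
  refine ⟨by rw [← hk, index_ker]; exact card_subgroup_dvd_card _, fun k => ⟨.ofBijective f
    ((Nat.bijective_iff_injective_and_card _).2 ⟨hf, ?_⟩)⟩⟩
  rw [← L.card_mul_index, k, ← (Inn X).card_mul_index, ← hL, card_map_of_injective hf, hL]
  rfl

theorem index_norm_psl {F : Type*} [Field F] [Finite F] [Fact p.Prime] [CharP F p] (e : G ≃* PSL(2, F))
    (Q : Sylow p G) : 𝐍((Q : Subgroup G)).index = Nat.card F + 1 ∧ Nat.card Q = Nat.card F := by
  let R := Q.mapSurjective (f := e.toMonoidHom) e.surjective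
  have h1 : (Q : Subgroup G) = (R : Subgroup PSL(2, F)).comap e.toMonoidHom :=
    (comap_map_eq_self_of_injective e.injective _).symm
  constructor
  · rw [h1, ← comap_normalizer_eq_of_surjective _ e.surjective, index_comap_of_surjective _ e.surjective,
      ← Classical.P1.card_PL, ← (Classical.Borel2.isRootSylow_PSL p).card_sylow]
    exact R.card_eq_index_normalizer.symm
  · rw [← card_map_of_injective (K := (Q : Subgroup G)) (f := e.toMonoidHom) e.injective]
    refine (Nat.card_congr (R.equiv (Classical.Borel2.sylPSL F p)).toEquiv).trans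
      (Nat.card_eq_of_bijective (fun b : F => (⟨_, (Classical.Borel2.mem_sylPSL p).2 ⟨b, rfl⟩⟩ :
        Classical.Borel2.sylPSL F p)) ⟨fun a b k => ?_, fun ⟨x, hx⟩ => ?_⟩).symm
    · have k' : ((Classical.SL2Basic.upper a : SL(2, F)) : PSL(2, F)) =
        (Classical.SL2Basic.upper b : SL(2, F)) := congrArg Subtype.val k
      rw [← sub_add_cancel a b, Classical.SL2Basic.upper_add, QuotientGroup.mk_mul,
        mul_eq_right] at k'
      exact sub_eq_zero.1 (Classical.Borel2.mk_upper_eq_one_iff.1 k')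
    · obtain ⟨b, rfl⟩ := (Classical.Borel2.mem_sylPSL p).1 hx
      exact ⟨b, rfl⟩

end Cfsg.Agent.DP
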