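import Mathlib
import Cfsg.Agent.DP.Basic
import Cfsg.Agent.DP.Aff
import Cfsg.Agent.S2554
import Cfsg.Agent.S2065
import Cfsg.Agent.S3915
import Cfsg.Agent.Fil.G
import Cfsg.Agent.Perm.Comp
import Cfsg.Agent.GW.Quat
import Cfsg.Agent.FGS.PSL2Real
import Cfsg.Agent.GsD.SB

/-! Core-free groups in which `p`-subgroups of the same order are conjugate, for every `p`. -/

set_option autoImplicit false
set_option linter.unusedSectionVars false

namespace Cfsg.Agent.DP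

open Subgroup Cfsg.Agent.GW Cfsg.Agent.LocalEven Cfsg.Agent.BG Cfsg.Agent.Gs Cfsg.Agent.Classical
open scoped commutatorElement MatrixGroups

variable {G : Type*} [Group G] [Finite G] {p : ℕ} {P V L : Subgroup G}

theorem psl_bound [Fact p.Prime] (hD : D1 p G) {F : Type*} [Field F] [Finite F] (e : L ≃* PSL(2, F))
    {f : ℕ} (hF : Nat.card F = p ^ f) (hf : 2 ≤ f) (hc : (Nat.card L).Coprime L.index) :
    (p ^ f - p) * Nat.gcd 2 (p ^ f - 1) ≤ L.index * ((p ^ 2 - 1) * (p ^ 2 - p)) := by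
  haveI : CharP F p := Congr.charP_of_card hF
  have p1 := (Fact.out : p.Prime).one_lt
  let Q : Sylow p L := (Borel2.sylPSL F p).mapSurjective (f := e.symm.toMonoidHom) e.symm.surjective
  obtain ⟨h1, h2⟩ := index_norm_psl e Q
  have hQ := isSylowIn_map Q
  set P := (Q : Subgroup L).map L.subtype with hP
  have cP : Nat.card P = p ^ f := by rw [card_map_of_injective L.subtype_injective, h2, hF]
  have hd : p ∣ Nat.card L := (cP ▸ dvd_pow_self p (by omega)).trans (card_dvd_of_le hQ.le)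
  have hS : IsSylowIn p P ⊤ := hQ.of_not_dvd_relIndex le_top (by
    rw [relIndex_top_right]
    exact fun k => p1.ne' (Nat.eq_one_of_dvd_coprimes hc hd k))
  have hm : ∀ x ∈ P, ∃ b : F, x = e.symm (SL2Basic.upper b : SL(2, F)) := by
    rintro - ⟨-, ⟨y, hy, rfl⟩, rfl⟩
    obtain ⟨b, rfl⟩ := (Borel2.mem_sylPSL p).1 hy
    exact ⟨b, rfl⟩
  let u : Multiplicative F →* G := L.subtype.comp (e.symm.toMonoidHom.comp ((QuotientGroup.mk' _).comp
    (MonoidHom.mk' (fun b => SL2Basic.upper b.toAdd) fun a b => SL2Basic.upper_add _ _)))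
  have ab : P ≤ 𝐂(P) := fun x hx => mem_centralizer_iff.2 fun y hy => by
    obtain ⟨a, rfl⟩ := hm x hx
    obtain ⟨b, rfl⟩ := hm y hy
    exact ((Commute.all (Multiplicative.ofAdd b) (Multiplicative.ofAdd a)).map u).eq
  obtain ⟨s, hs, e1⟩ := hD.count hS (fun x hx => by
    obtain ⟨a, rfl⟩ := hm x hx
    change u (Multiplicative.ofAdd a) ^ p = 1
    rw [← map_pow, ← ofAdd_nsmul, nsmul_eq_mul, CharP.cast_eq_zero, zero_mul, ofAdd_zero, map_one])
    ab (cP ▸ Nat.pow_le_pow_right p1.le hf)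
  have a1 := Nat.le_of_dvd (Nat.pos_of_ne_zero index_ne_zero_of_finite) hs
  have a2 := Core.card_inf_mul_relIndex 𝐂(P) 𝐍(P)
  have a3 : p ^ f ≤ Nat.card (𝐂(P) ⊓ 𝐍(P) : Subgroup G) := cP ▸ card_le_of_le (le_inf ab le_normalizer)
  have a4 := 𝐍(P).card_mul_index
  have a5 : p ^ f + 1 ≤ 𝐍(P).index := by
    rw [← hF, ← h1, ← hQ.coe_toSylow.trans (comap_map_eq_self_of_injective L.subtype_injective _),
      hQ.coe_toSylow, ← subgroupOf_normalizer_eq hQ.le, ← relIndex, ← relIndex_top_right]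
    exact relIndex_le_of_le_right le_top index_ne_zero_of_finite
  have a6 := SLBasic.card_PSL_two (F := F)
  rw [← Nat.card_congr e.toEquiv, hF] at a6
  have a7 := L.card_mul_index
  have q1 : 1 < p ^ f := Nat.one_lt_pow (by omega) p1
  rw [cP] at e1
  obtain ⟨q, hq⟩ : ∃ q, p ^ f = q + 1 := ⟨p ^ f - 1, by omega⟩
  rw [hq] at a3 a5 a6 e1 q1 ⊢
  simp only [Nat.add_sub_cancel] at a6 e1 ⊢
  rw [show (q + 1) ^ 2 - 1 = q * (q + 1 + 1) by rw [Nat.sub_eq_iff_eq_add (by nlinarith)]; ring] at a6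
  generalize (p ^ 2 - 1) * (p ^ 2 - p) = c at *
  generalize Nat.gcd 2 q = d at *
  have b1 : 𝐂(P).relIndex 𝐍(P) * d * ((q + 1) * (q + 1 + 1)) ≤ q * L.index * ((q + 1) * (q + 1 + 1)) :=
    calc _ = ((q + 1) * 𝐂(P).relIndex 𝐍(P)) * (q + 1 + 1) * d := by ring
      _ ≤ Nat.card 𝐍(P) * 𝐍(P).index * d := by rw [← a2]; gcongr
      _ = _ := by rw [a4, ← a7, mul_right_comm, mul_comm _ d, a6]; ring
  have b2 := Nat.le_of_mul_le_mul_right b1 (by positivity)
  refine Nat.le_of_mul_le_mul_left (c := q) ?_ (by omega)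
  calc q * ((q + 1 - p) * d) = s * d * c := by rw [← mul_assoc, ← e1]; ring
    _ ≤ 𝐂(P).relIndex 𝐍(P) * d * c := by gcongr; exact a1
    _ ≤ q * L.index * c := by gcongr
    _ = _ := by ring

theorem odd_bound {p f b : ℕ} (hp : 3 ≤ p) (hf : 5 ≤ f) (hb : b ≤ f) :
    b * ((p ^ 2 - 1) * (p ^ 2 - p)) < (p ^ f - p) * 2 := by
  obtain ⟨k, rfl⟩ := Nat.exists_eq_add_of_le hf
  have h1 : 5 + k + 1 ≤ 2 * p ^ (k + 1) := by
    clear hb hf
    induction k with
    | zero => simp; omega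
    | succ k ih => rw [pow_succ]; nlinarith
  have h2 : (p ^ 2 - 1) * (p ^ 2 - p) < p ^ 4 := by
    have : 0 < p ^ 2 := by positivity
    calc _ < p ^ 2 * p ^ 2 := Nat.mul_lt_mul'' (by omega) (by omega)
      _ = _ := by ring
  have h3 : 2 * p ≤ p ^ 4 := by nlinarith [Nat.pow_le_pow_left hp 3, pow_succ p 3]
  have h4 : (5 + k + 1) * p ^ 4 ≤ 2 * p ^ (5 + k) := by
    calc _ ≤ 2 * p ^ (k + 1) * p ^ 4 := by gcongr
      _ = _ := by ring
  have h5 : b * ((p ^ 2 - 1) * (p ^ 2 - p)) < (5 + k) * p ^ 4 :=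
    lt_of_le_of_lt (Nat.mul_le_mul_right _ hb) (Nat.mul_lt_mul_of_pos_left h2 (by omega))
  rw [add_mul _ 1] at h4
  omega

/-- A cyclic and a dihedral subgroup of the same order. -/
def Wit (G : Type*) [Group G] : Prop := ∃ t s x : G, orderOf t = 2 ∧ s * s = 1 ∧ Odd (orderOf x) ∧
  x ≠ 1 ∧ t * x = x * t ∧ s * x * s⁻¹ = x⁻¹

def L2G (G : Type*) [Group G] : Prop :=
  ∃ (p : ℕ) (F : Type) (_ : Field F) (_ : Fintype F), p.Prime ∧ (p % 8 = 3 ∨ p % 8 = 5) ∧
    (Fintype.card F = p ∨ Fintype.card F = p ^ 3) ∧ 5 ≤ Fintype.card F ∧ Nonempty (G ≃* PSL(2, F))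

def AffG (G : Type*) [Group G] : Prop :=
  Nonempty (G ≃* affineGroup (GaloisField 2 3)) ∨ Nonempty (G ≃* semiaffineGroup (GaloisField 2 3)) ∨
    Nonempty (G ≃* semiaffineGroup (GaloisField 2 5))

def Big (G : Type*) [Group G] : Prop :=
  (IsJ1 G ∧ Wit G) ∨ Nonempty (G ≃* PSL(2, GaloisField 2 3)) ∨
    Nonempty (G ≃* MulAut PSL(2, GaloisField 2 5))

theorem emb_galois [Fact p.Prime] {X : Subgroup G} [P.Normal] (hc : P.IsComplement' X) (hC : 𝐂(P) ≤ P)
    {n : ℕ} (hn : n ≠ 0) (hP : Nat.card P = p ^ n) {F : Type} [Field F] [Fintype F] (e : P ≃ F)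
    (he : ∀ u v, e (u * v) = e u + e v)
    (h : ∀ x ∈ X, ∃ (a : F) (σ : F ≃+* F), ∀ v : P, e (MulAut.conjNormal x v) = a * σ (e v)) :
    ∃ f : G →* semiaffineGroup (GaloisField p n), Function.Injective f := by
  obtain ⟨ι⟩ := Congr.nonempty_ringEquiv (K := F) (F := GaloisField p n) (by
    rw [← Nat.card_congr e, hP, GaloisField.card p n hn])
  refine exists_emb hc hC (e.trans ι.toEquiv) (fun u v => by simp [he]) fun x hx => ?_
  obtain ⟨a, σ, k⟩ := h x hx
  exact ⟨ι a, ι.symm.trans (σ.trans ι), fun v => by simp [k]⟩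

theorem solv_case (hD : D1 2 G) (hO : pPrimeCore 2 G = ⊥) (h2 : ∀ (x : G) k, x ^ 2 ^ k = 1 → x * x = 1)
    (h4 : 4 ∣ Nat.card G) (h0 : pCore 2 G ≠ ⊥) :
    Nonempty (G ≃* alternatingGroup (Fin 4)) ∨ (8 ∣ Nat.card G ∧ AffG G) := by
  have hp := Core.pCore_isPGroup (G := G) 2
  have hm : ∀ N : Subgroup G, N.Normal → N ≠ ⊥ → ∀ x, x * x = 1 → x ∈ N := fun N _ hN x hx =>
    hD.mem (by
      by_contra k
      exact hN (eq_bot_iff.2 (hO ▸ Core.le_pPrimeCore inferInstance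
        ((Nat.Prime.coprime_iff_not_dvd Nat.prime_two).2 k).symm))) (by rw [sq, hx])
  have sq' : ∀ {Q : Subgroup G}, IsPGroup 2 Q → ∀ x ∈ Q, x * x = 1 := fun hQ x hx =>
    let ⟨k, hk⟩ := isPGroup_iff_mem.1 hQ x hx; h2 x k hk
  set P := pCore 2 G with hP
  have hS : IsSylowIn 2 P ⊤ := ⟨le_top, hp, fun Q _ hQ hle => le_antisymm
    (fun x hx => hm P inferInstance h0 x (sq' hQ x hx)) hle⟩
  have ho : ¬ 2 ∣ P.index := relIndex_top_right P ▸ hS.not_dvd
  obtain ⟨n, hn⟩ := hp.exists_card_eq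
  have hcop : (Nat.card P).Coprime P.index := by
    rw [hn]; exact ((Nat.Prime.coprime_iff_not_dvd Nat.prime_two).2 ho).pow_left n
  have n2 : 2 ^ 2 ≤ Nat.card P := Nat.le_of_dvd Nat.card_pos (by
    rw [← P.card_mul_index] at h4
    exact (((Nat.Prime.coprime_iff_not_dvd Nat.prime_two).2 ho).pow_left 2).dvd_of_dvd_mul_right h4)
  have n2' : 2 ≤ n := (Nat.pow_le_pow_iff_right (by norm_num)).1 (hn ▸ n2)
  have ab := le_cent_of_sq (sq' hp)
  haveI : Group.IsSolvable G := by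
    haveI := hp.isNilpotent
    haveI := S0205.result (G := G ⧸ P) (Nat.odd_iff.2 (Nat.two_dvd_ne_zero.1 ho))
    exact (Group.isSolvable_iff_subgroup_quotient P).2 ⟨inferInstance, inferInstance⟩
  have hC : 𝐂(P) ≤ P := Core.centralizer_pCore_le 2 hO
  obtain ⟨X, hX⟩ := exists_right_complement'_of_coprime hcop
  have cX : Nat.card X = P.index := hX.symm.index_eq_card.symm
  have tr : ∀ v w : P, v ≠ 1 → w ≠ 1 → ∃ g : G, MulAut.conjNormal g v = w := fun v w hv hw => by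
    have k : ∀ v : P, v ≠ 1 → orderOf (v : G) = 2 := fun v hv =>
      two_of_sq (sq' hp _ v.2) fun e => hv (Subtype.ext e)
    obtain ⟨g, hg⟩ := hD.conj (k v hv) (k w hw)
    rcases (Perm.mem_zpowers_two (k v hv)).1 hg with e | e
    · exact absurd (Subtype.ext (by simpa [mul_assoc] using congrArg (fun x => g * x * g⁻¹) e)) hw
    · exact ⟨g, Subtype.ext (by simp [← e, mul_assoc])⟩
  letI : CommGroup P := { (inferInstance : Group P) with
    mul_comm := fun a b => Subtype.ext (Gs.comm_of_sq (sq' hp) a.2 b.2) }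
  haveI : Nontrivial P := (nontrivial_iff_ne_bot P).2 h0
  haveI : Group.IsSolvable (MulAut.conjNormal (H := P)).range :=
    Group.isSolvable_of_surjective (MonoidHom.rangeRestrict_surjective _)
  rcases lin (p := 2) (fun v => Subtype.ext (by rw [sq]; exact sq' hp _ v.2))
    (MulAut.conjNormal (H := P)).range (fun v w hv hw =>
      let ⟨g, e⟩ := tr v w hv hw; ⟨_, ⟨g, rfl⟩, e⟩) with ⟨F, _, _, e, he, k⟩ | k
  swap
  · have : 2 ∣ Nat.card P := hn ▸ dvd_pow_self 2 (by omega)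
    simp only [Set.mem_insert_iff, Set.mem_singleton_iff] at k
    omega
  obtain ⟨f, hf⟩ := emb_galois hX hC (by omega) hn e he fun x _ => k _ ⟨x, rfl⟩
  have hF := GaloisField.card 2 n (by omega)
  obtain ⟨s, hs, e1⟩ := hD.count hS (fun x hx => by rw [sq, sq' hp x hx]) ab n2
  rw [le_antisymm hC ab, normalizer_eq_top, relIndex_top_right] at hs
  obtain ⟨a, b, h1, h3, h5, -⟩ := exists_card hF (f := f.comp X.subtype)
    (hf.comp X.subtype_injective)
  rw [cX] at h5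
  have ha : a ∣ 2 ^ n - 1 := (Nat.Coprime.pow_right n ((Nat.Prime.coprime_iff_not_dvd Nat.prime_two).2
    fun k => ho (h5 ▸ k.mul_right b)).symm).dvd_of_dvd_mul_right h1
  have hb : ¬ 2 ∣ b := fun k => ho (h5 ▸ k.mul_left a)
  have h6 : P.index ∣ (2 ^ n - 1) * b := h5 ▸ Nat.mul_dvd_mul_right ha b
  have hG := P.card_mul_index
  rw [hn] at e1 hG n2
  have b0 : 0 < b := Nat.pos_of_dvd_of_pos h3 (by omega)
  have h7 := Nat.le_of_dvd (Nat.mul_pos (by omega) b0) (hs.trans h6)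
  have h8 : 2 ^ n - 2 ≤ 6 * b := Nat.le_of_mul_le_mul_left (c := 2 ^ n - 1) (by
    rw [← e1]; norm_num; nlinarith) (by omega)
  have bij : Nat.card G = (2 ^ n - 1) * 2 ^ n * n → Nonempty (G ≃* semiaffineGroup (GaloisField 2 n)) :=
    fun k => ⟨.ofBijective f ((Nat.bijective_iff_injective_and_card _).2 ⟨hf, by rw [card_semi hF, k]⟩)⟩
  rcases Fil.pow_bound n2' h3 hb (by omega) with rfl | rfl | rfl
  · have hb1 : b = 1 := by have := Nat.le_of_dvd two_pos h3; omega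
    rw [hb1] at h6
    have h9 : P.index = 3 := ((Nat.dvd_prime Nat.prime_three).1 h6).resolve_left fun k => by
      obtain ⟨v, hv, v1⟩ := Comp2.exists_mem_ne_one h0
      obtain ⟨w, hw, w1, wv⟩ := exists_third hn.ge v
      obtain ⟨g, hg⟩ := tr ⟨v, hv⟩ ⟨w, hw⟩ (fun e => v1 (congrArg Subtype.val e))
        fun e => w1 (congrArg Subtype.val e)
      exact wv ((congrArg Subtype.val hg).symm.trans
        (conj_eq_of_cent (ab ((index_eq_one.1 k).ge (mem_top g))) hv))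
    refine .inl (SmallRecog.equiv_A4_of_no_cyclic (by rw [← hG, h9]; rfl) fun g g1 hg => ?_)
    have h10 := isCyclic_of_le (fun x hx => hm _ hg (zpowers_ne_bot.2 g1) x (sq' hp x hx) : P ≤ zpowers g)
    obtain ⟨x, hx⟩ := h10.exists_ofOrder_eq_natCard
    have := orderOf_dvd_of_pow_eq_one (show x ^ 2 = 1 from Subtype.ext (by rw [sq]; exact sq' hp _ x.2))
    rw [hx, hn] at this
    norm_num at this
  · refine .inr ⟨hG ▸ dvd_mul_right _ _, ?_⟩
    obtain rfl : s = 7 := by omega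
    obtain ⟨c, hc⟩ := hs
    have hc3 : c ∣ 3 := (Nat.dvd_of_mul_dvd_mul_left (by norm_num) (hc ▸ h6 : 7 * c ∣ 7 * b)).trans h3
    rcases (Nat.dvd_prime Nat.prime_three).1 hc3 with rfl | rfl
    · obtain ⟨a', b', -, k3, k5, k6⟩ := exists_card hF hf
      obtain rfl : b' = 1 := ((Nat.dvd_prime Nat.prime_three).1 k3).resolve_right fun e => by
        subst e; omega
      exact .inl (k6 (by omega) rfl)
    · exact .inr (.inl (bij (by omega)))
  · refine .inr ⟨hG ▸ (show 8 ∣ 2 ^ 5 by norm_num).mul_right _, .inr (.inr (bij ?_))⟩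
    obtain rfl : s = 155 := by omega
    have := Nat.dvd_antisymm hs (h6.trans (Nat.mul_dvd_mul_left _ h3))
    omega

theorem ab_of_pgroup (h : ∀ p, p.Prime → D1 p G) (h2 : ∀ (x : G) k, x ^ 2 ^ k = 1 → x * x = 1)
    (hp : p.Prime) {Q : Subgroup G} (hQ : IsPGroup p Q) : IsMulCommutative Q := by
  haveI := Fact.mk hp
  obtain ⟨P, hP⟩ := hQ.exists_le_sylow
  refine Core.isMulCommutative_of_le ?_ hP
  rcases S4020.result h P with k | k | ⟨⟨e⟩⟩
  · exact k.isMulCommutative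
  · exact k.1
  · have h1 := (e.symm.orderOf_eq _).trans (QuaternionGroup.orderOf_xa (n := 2) 0)
    have h3 := h2 (e.symm (.xa 0) : P) 2 (by
      rw [← coe_pow, show 2 ^ 2 = 4 from rfl, ← h1, pow_orderOf_eq_one, coe_one])
    rw [← sq, ← orderOf_dvd_iff_pow_eq_one, orderOf_coe, h1] at h3
    norm_num at h3

theorem card_out_odd {F : Type*} [Field F] [Fintype F] [Fact p.Prime] {f : ℕ} (hf : 1 ≤ f)
    (hF : Fintype.card F = p ^ f) (h4 : 4 ≤ p ^ f) : Nat.card (Out PSL(2, F)) ∣ 2 * f := by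
  obtain ⟨φ, h1, -, h2⟩ := S2602.result hf hF h4
  rw [← φ.ker.card_mul_index, h2, index_ker, MonoidHom.range_eq_top.2 h1, card_top,
    Nat.card_congr Multiplicative.toAdd, Nat.card_zmod]
  exact Nat.mul_dvd_mul_right (Nat.gcd_dvd_left _ _) _

theorem equiv_of_index (h : L.index = 1) : Nonempty (G ≃* L) :=
  ⟨((MulEquiv.subgroupCongr (index_eq_one.1 h)).trans topEquiv).symm⟩

theorem simple_case (hD : ∀ p, p.Prime → D1 p G) (hO : pPrimeCore 2 G = ⊥)
    (h2 : ∀ (x : G) k, x ^ 2 ^ k = 1 → x * x = 1) [Nontrivial G] (h0 : pCore 2 G = ⊥) :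
    IsSimpleGroup G ∧ L2G G ∨ (8 ∣ Nat.card G ∧ Big G) := by
  have hF : fittingSubgroup G = ⊥ := (Core.fitting_eq_pCore 2 hO).trans h0
  have hC := Perm.centralizer_layer hF
  have hZ : center (layer G) = ⊥ := eq_bot_iff.2 fun z hz => Subtype.ext (mem_bot.1 (hC.le
    (mem_centralizer_iff.2 fun l hl => congrArg Subtype.val (mem_center_iff.1 hz ⟨l, hl⟩))))
  obtain ⟨h3, h4⟩ := S3915.result (fun p hp A B _ _ hA e => hD p hp A B hA (by
    haveI := Fact.mk hp
    obtain ⟨n, hn⟩ := hA.exists_card_eq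
    exact .of_card (e ▸ hn)) e) (fun k => by
      rw [k, coe_bot, centralizer_eq_top_iff_subset.2 (by simp)] at hC
      exact top_ne_bot hC)
  have e0 := (QuotientGroup.quotientMulEquivOfEq hZ).trans QuotientGroup.quotientBot
  obtain ⟨L, hL⟩ : ∃ L : Subgroup G, AS L :=
    ⟨_, inferInstance, e0.symm.isSimpleGroup, GsC.nab_of_equiv e0.symm h4, hC⟩
  haveI := hL.normal
  haveI := hL.simple
  have hn := hL.nab
  have hc := cop hD h2 hL.simple hn
  have hA : ∀ p, p.Prime → ∀ Q : Sylow p L, IsMulCommutative (Q : Subgroup L) := fun p hp Q =>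
    have k := ab_of_pgroup hD h2 hp (Q.2.map L.subtype)
    ⟨⟨fun a b => Subtype.ext (Subtype.ext (congrArg Subtype.val (k.is_comm.comm
      (⟨_, mem_map_of_mem _ a.2⟩ : (Q : Subgroup L).map L.subtype) ⟨_, mem_map_of_mem _ b.2⟩) :))⟩⟩
  have nd : ∀ r : ℕ, 1 < r → r ∣ Nat.card L → ¬ r ∣ L.index := fun r hr h1 h2 =>
    hr.ne' (Nat.eq_one_of_dvd_coprimes hc h1 h2)
  have ho : ¬ 2 ∣ L.index := nd 2 one_lt_two (Fil.even_of_simple hn).two_dvd
  have b0 : 0 < L.index := Nat.pos_of_ne_zero index_ne_zero_of_finite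
  have hG := card_subgroup_dvd_card L
  obtain ⟨P⟩ : Nonempty (Sylow 2 L) := inferInstance
  rcases FGS.walter hn (fun _ => Ab2.two_comm P (hA 2 Nat.prime_two P)) with
    ⟨F, _, _, n, hn2, hF, ⟨e⟩⟩ | h | h
  · have hF' : Nat.card F = 2 ^ n := by rw [Nat.card_eq_fintype_card, hF]
    obtain ⟨h5, h6⟩ := index_dvd_out hL e
    rw [Fil.card_out_two hn2 hF] at h5 h6
    have h7 := psl_bound (hD 2 Nat.prime_two) e hF' hn2 hc
    have h8 := Nat.gcd_pos_of_pos_left (2 ^ n - 1) two_pos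
    have h9 : 2 ^ n - 2 ≤ L.index * 6 := (Nat.le_mul_of_pos_right _ h8).trans h7
    have cL := (Nat.card_congr e.toEquiv).trans (PSL2Basic.card_PSL_of_card hF')
    rcases Fil.pow_bound hn2 h5 ho (by omega) with rfl | rfl | rfl
    · obtain ⟨e1⟩ := equiv_of_index (L := L) (by have := Nat.le_of_dvd two_pos h5; omega)
      obtain ⟨K, _, _, h10, f⟩ := CIT.F.L2.five_of_four ⟨F, _, _, hF, ⟨e1.trans e⟩⟩
      exact .inl ⟨e1.isSimpleGroup, 5, K, _, _, by norm_num, by norm_num, .inl h10, h10.ge, f⟩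
    · obtain ⟨e1⟩ := equiv_of_index (L := L) (((Nat.dvd_prime Nat.prime_three).1 h5).resolve_right
        fun k => nd 3 (by norm_num) (by rw [cL]; norm_num) k.symm.dvd)
      obtain ⟨ι⟩ := Congr.nonempty_ringEquiv (hF'.trans (GaloisField.card 2 3 (by norm_num)).symm)
      exact .inr ⟨Dvd.dvd.trans (by rw [cL]; norm_num) hG, .inr (.inl ⟨(e1.trans e).trans (Congr.pslCongr ι)⟩)⟩
    · obtain ⟨e1⟩ := h6 (by have := Nat.le_of_dvd (by norm_num) h5; omega)
      obtain ⟨ι⟩ := Congr.nonempty_ringEquiv (hF'.trans (GaloisField.card 2 5 (by norm_num)).symm)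
      exact .inr ⟨Dvd.dvd.trans (by rw [cL]; norm_num) hG,
        .inr (.inr ⟨e1.trans (MulAut.congr (Congr.pslCongr ι))⟩)⟩
  · obtain ⟨F, _, _, h5, h6, ⟨e⟩⟩ := GsC.four_known hn h
    obtain ⟨r, _, ⟨f, f0⟩, hr, hF⟩ := FiniteField.card' F
    haveI := Fact.mk hr
    replace hF : Fintype.card F = r ^ f := hF
    have hF' : Nat.card F = r ^ f := by rw [Nat.card_eq_fintype_card, hF]
    have r2 : r % 2 = 1 := hr.eq_two_or_odd.resolve_left fun k => by
      have : 2 ∣ r ^ f := k.symm.dvd.trans (dvd_pow_self r f0.ne')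
      omega
    have r8 : r ^ 2 % 8 = 1 := by
      have : r % 8 = 1 ∨ r % 8 = 3 ∨ r % 8 = 5 ∨ r % 8 = 7 := by omega
      rcases this with k | k | k | k <;> simp [Nat.pow_mod, k]
    obtain ⟨m, hm⟩ : ∃ m, f = 2 * m ∨ f = 2 * m + 1 := ⟨f / 2, by omega⟩
    have r9 : r ^ (2 * m) % 8 = 1 := by rw [pow_mul, Nat.pow_mod, r8]; simp
    obtain rfl : f = 2 * m + 1 := hm.resolve_left fun k => by rw [hF, k] at h5; omega
    have r10 : r % 8 = 3 ∨ r % 8 = 5 := by
      rw [hF, pow_succ, Nat.mul_mod, r9, one_mul, Nat.mod_mod] at h5; exact h5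
    have h7 : L.index ∣ 2 * m + 1 := ((Nat.Prime.coprime_iff_not_dvd Nat.prime_two).2 ho).symm
      |>.dvd_of_dvd_mul_left ((index_dvd_out hL e).1.trans (card_out_odd f0 hF (by omega)))
    have h8 : m ≤ 1 := by
      by_contra k
      have h9 := psl_bound (hD r hr) e hF' (by omega) hc
      rw [← hF', PSL2Basic.gcd_eq_two (PSL2Basic.odd_card_iff.1 (by
        rw [Nat.card_eq_fintype_card, Nat.odd_iff]; omega)), hF'] at h9
      exact absurd h9 (not_le.2 (odd_bound (by omega) (by omega) (Nat.le_of_dvd f0 h7)))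
    have h3 : 3 ∣ Nat.card L := by
      obtain ⟨S, hS⟩ := h
      obtain ⟨x, -, hx, -⟩ := (GsC.fd_top hn S hS).exists_three
      exact hx ▸ orderOf_dvd_natCard x
    obtain ⟨e1⟩ := equiv_of_index (L := L) (by
      interval_cases m
      · exact Nat.dvd_one.1 h7
      · exact ((Nat.dvd_prime Nat.prime_three).1 h7).resolve_right fun k => nd 3 (by norm_num) h3 k.symm.dvd)
    exact .inl ⟨e1.isSimpleGroup, r, F, _, _, hr, r10, by interval_cases m <;> simp [hF], h6,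
      ⟨e1.trans e⟩⟩
  obtain ⟨t, a, b, ρ, E, E₀, T, h⟩ := JRE.exists_jr h
  obtain ⟨F, _, _, e, ⟨m, -, hq, -⟩ | ⟨h5, f⟩⟩ := JRE.known_of_bot h (JRE.jr_bot h)
  · obtain rfl := h.E_eq (JRE.jr_bot h)
    obtain ⟨Q, hQ⟩ := exists_isSylowIn 3 (GW.cz t)
    obtain ⟨j, R, B⟩ := JRE.exists_bor h hq e hQ
    obtain ⟨P, UP, hP, -, N⟩ := JRE.wd_bn h hq e B
    have := Fintype.ofFinite L
    exact (JRE.wd_nab h hq e B UP N (le_centralizer_iff_isMulCommutative.2
      (hA 3 Nat.prime_three hP.toSylowTop))).elim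
  · obtain ⟨e1⟩ := equiv_of_index (L := L) (Nat.dvd_one.1
      (S2065.result ▸ (index_dvd_out hL f.some).1))
    have h6 := (GsC.isJ1_of_iso f).2
    obtain ⟨s, s2, hs⟩ := FGS.real_of_psl2 e ⟨ρ, h.rE⟩ (by
      rw [orderOf_mk, h.r3, Nat.card_eq_fintype_card, h5]; norm_num)
    refine .inr ⟨Dvd.dvd.trans (by rw [h6]; norm_num) hG, .inl ⟨⟨e1.isSimpleGroup,
      (Nat.card_congr e1.toEquiv).trans h6⟩, t, s, ρ, by rw [orderOf_coe, h.two],
      congrArg (fun x : E₀ => ((x : L) : G)) s2, by rw [orderOf_coe, h.r3]; decide, fun k => ?_,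
      (congrArg Subtype.val (mem_cz.1 (GsC.JRC_le h.toJRC h.rE)) :).symm,
      congrArg (fun x : E₀ => ((x : L) : G)) hs⟩⟩
    have := h.r3
    rw [show ρ = 1 from Subtype.ext k, orderOf_one] at this
    omega

theorem elem (hD : ∀ p, p.Prime → D1 p G) (hO : pPrimeCore 2 G = ⊥)
    (h2 : ∀ (x : G) k, x ^ 2 ^ k = 1 → x * x = 1) (h4 : 4 ∣ Nat.card G) :
    Nonempty (G ≃* alternatingGroup (Fin 4)) ∨ IsSimpleGroup G ∧ L2G G ∨
      (8 ∣ Nat.card G ∧ (AffG G ∨ Big G)) := by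
  haveI : Nontrivial G := Finite.one_lt_card_iff_nontrivial.1
    (lt_of_lt_of_le (by norm_num) (Nat.le_of_dvd Nat.card_pos h4))
  by_cases h0 : pCore 2 G = ⊥
  · exact .inr ((simple_case hD hO h2 h0).imp_right fun k => ⟨k.1, .inr k.2⟩)
  · exact (solv_case (hD 2 Nat.prime_two) hO h2 h4 h0).imp_right fun k => .inr ⟨k.1, .inl k.2⟩

end Cfsg.Agent.DP
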