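import Mathlib
import Cfsg.Agent.DP.Main
import Cfsg.Agent.GsC.Known

/-! The final lists for groups in which subgroups of the same order are conjugate. -/

set_option autoImplicit false
set_option linter.unusedSectionVars false

namespace Cfsg.Agent.DP

open Subgroup Cfsg.Agent.GW Cfsg.Agent.LocalEven Cfsg.Agent.BG Cfsg.Agent.Gs Cfsg.Agent.Classical
open scoped commutatorElement MatrixGroups

variable {G : Type*} [Group G] [Finite G]

theorem exp_of_syl (P : Sylow 2 G) {m : ℕ} (h : ∀ y ∈ (P : Subgroup G), y ^ m = 1) (x : G) (k : ℕ)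
    (hx : x ^ 2 ^ k = 1) : x ^ m = 1 := by
  obtain ⟨j, -, hj⟩ := (Nat.dvd_prime_pow Nat.prime_two).1 (orderOf_dvd_of_pow_eq_one hx)
  obtain ⟨Q, hQ⟩ := (IsPGroup.of_card (by rw [Nat.card_zpowers, hj]) :
    IsPGroup 2 (zpowers x)).exists_le_sylow
  obtain ⟨g, rfl⟩ := MulAction.exists_smul_eq G P Q
  obtain ⟨y, hy, e⟩ := hQ (mem_zpowers x)
  rw [← e]
  exact (map_pow (MulAut.conj g) y m).symm.trans (by rw [h y hy, map_one])

def L2S (G : Type*) [Group G] : Prop :=
  ∃ (p : ℕ) (F : Type) (_ : Field F) (_ : Fintype F), p.Prime ∧ (p % 8 = 3 ∨ p % 8 = 5) ∧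
    (Fintype.card F = p ∨ Fintype.card F = p ^ 3) ∧ 5 ≤ Fintype.card F ∧
    (Nonempty (G ≃* PSL(2, F)) ∨ Nonempty (G ≃* SL(2, F)))

theorem mod_eight {p q : ℕ} (h : p % 8 = 3 ∨ p % 8 = 5) (hq : q = p ∨ q = p ^ 3) :
    q % 8 = 3 ∨ q % 8 = 5 := by
  rcases hq with rfl | rfl
  · exact h
  · rcases h with h | h <;> simp [Nat.pow_mod, h]

theorem core_free (hD : ∀ p, p.Prime → D1 p G) (hO : pPrimeCore 2 G = ⊥) :
    (IsCyclic G ∧ IsPGroup 2 G) ∨ AffG G ∨ Big G ∨ Nonempty (G ≃* alternatingGroup (Fin 4)) ∨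
      Nonempty (G ≃* SL(2, ZMod 3)) ∨ L2S G := by
  obtain ⟨P⟩ : Nonempty (Sylow 2 G) := inferInstance
  by_cases hc : IsCyclic P
  · obtain ⟨Q, N, hN, h⟩ := Block.hasNormalPComplement_two_of_isCyclic P hc
    obtain rfl : N = ⊥ := le_bot_iff.1 (hO ▸ Inv.le_oddCore hN (by
      rw [← h.index_eq_card, ← Nat.not_even_iff_odd, even_iff_two_dvd]; exact Q.not_dvd_index))
    have h1 : (P : Subgroup G) = ⊤ := eq_top_of_card_eq _ (by
      rw [GsC.card_syl P Q, isComplement'_bot_left.1 h, card_top])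
    have e : (P : Subgroup G) ≃* G := (MulEquiv.subgroupCongr h1).trans topEquiv
    exact .inl ⟨isCyclic_of_surjective e e.surjective, P.2.of_equiv e⟩
  have h4 : 4 ∣ Nat.card P := by
    obtain ⟨n, hn⟩ := P.2.exists_card_eq
    rcases n with _ | _ | n
    · haveI := (Nat.card_eq_one_iff_unique.1 hn).1
      exact absurd isCyclic_of_subsingleton hc
    · exact absurd (isCyclic_of_prime_card (p := 2) hn) hc
    · exact ⟨2 ^ n, by rw [hn]; ring⟩
  rcases (S4020.result hD P).resolve_left hc with h | ⟨⟨e⟩⟩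
  · rcases elem hD hO (fun x k hx => (sq x).symm.trans (exp_of_syl P h.2 x k hx))
      (h4.trans (card_subgroup_dvd_card _)) with h | ⟨-, p, F, _, _, h1, h2, h3, h4, h5⟩ | ⟨-, h | h⟩
    · exact .inr (.inr (.inr (.inl h)))
    · exact .inr (.inr (.inr (.inr (.inr ⟨p, F, _, _, h1, h2, h3, h4, .inl h5⟩))))
    · exact .inr (.inl h)
    · exact .inr (.inr (.inl h))
  obtain ⟨z, hz, hu, hZ, _, -, hO'⟩ := QSyl.exists_z ⟨P, Perm.exists_gq (k := 1) e hc⟩ hO
  have c8 : Nat.card P = 8 := by rw [Nat.card_congr e.toEquiv, Nat.card_eq_fintype_card, QuaternionGroup.card]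
  have hs := QuotientGroup.mk'_surjective (zpowers z)
  have hG := Perm.card_of_quot hz _ hs (QuotientGroup.ker_mk' _)
  have h8 : 8 ∣ Nat.card G := c8 ▸ card_subgroup_dvd_card _
  have hk : ∀ {X : Type} [Group X] (f : G ⧸ zpowers z ≃* X),
      (f.toMonoidHom.comp (QuotientGroup.mk' (zpowers z))).ker = zpowers z := fun f => by
    ext g; simp [QuotientGroup.eq_one_iff]
  rcases elem (fun p hp => by haveI := Fact.mk hp; exact (hD p hp).map _ hs) hO' (fun x k hx => by
      obtain ⟨x, rfl⟩ := QuotientGroup.mk_surjective x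
      have h1 : x ^ 2 ^ k ∈ zpowers z := (QuotientGroup.eq_one_iff _).1 hx
      have h2 := exp_of_syl P (m := 2 * 2) (fun y hy => congrArg Subtype.val (e.injective
        (a₁ := ⟨y, hy⟩ ^ (2 * 2)) (a₂ := 1) (by
          rw [map_pow, map_one]; generalize e ⟨y, hy⟩ = w; revert w; decide))) x (k + 1) (by
        rw [pow_succ, pow_mul]
        rcases (Perm.mem_zpowers_two hz).1 h1 with k | k <;> rw [k]
        exacts [one_pow _, hz ▸ pow_orderOf_eq_one z])
      rw [← QuotientGroup.mk_mul, QuotientGroup.eq_one_iff, ← sq]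
      by_cases h3 : x ^ 2 = 1
      · exact h3 ▸ one_mem _
      · exact hu _ (orderOf_eq_prime (by rw [← pow_mul, h2]) h3) ▸ mem_zpowers _) (by omega) with
    ⟨⟨f⟩⟩ | ⟨hS, p, F, _, _, h1, h2, h3, h4, ⟨f⟩⟩ | ⟨h, -⟩
  · exact .inr (.inr (.inr (.inr (.inl (Perm.equiv_SL23 hz hu _ (f.surjective.comp hs) (hk f))))))
  · have h5 := mod_eight h2 h3
    have hn := GsC.nab_of_equiv f (Inv.psl2_not_comm (by rw [Nat.card_eq_fintype_card]; omega))
    have h6 : (commutator G).map (QuotientGroup.mk' (zpowers z)) = ⊤ := by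
      rw [map_commutator_eq, MonoidHom.range_eq_top.2 hs]
      exact (inferInstance : (commutator _).Normal).eq_bot_or_eq_top.resolve_left fun k =>
        hn ((_root_.commutator_eq_bot_iff _).1 k)
    obtain ⟨t, ht, t2⟩ := exists_mem_orderOf_eq (H := commutator G) (p := 2)
      ((Fil.even_of_simple hn).two_dvd.trans (by
        rw [← card_top, ← h6]; exact card_map_dvd _ _))
    haveI : Group.IsPerfect G := ⟨by
      have := comap_map_eq (QuotientGroup.mk' (zpowers z)) (commutator G)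
      rwa [h6, comap_top, QuotientGroup.ker_mk', sup_eq_left.2 (zpowers_le.2 (hu t t2 ▸ ht)),
        eq_comm] at this⟩
    exact .inr (.inr (.inr (.inr (.inr ⟨p, F, _, _, h1, h2, h3, h4, .inr (equiv_SL2
      (by rw [Nat.odd_iff]; omega) (by omega) hz hZ _ (f.surjective.comp hs) (hk f))⟩))))
  · have := P.pow_dvd_card_of_pow_dvd_card (n := 4) (by omega)
    omega

/-- Subgroups of the same order are conjugate. -/
def C1 (G : Type*) [Group G] : Prop :=
  ∀ H K : Subgroup G, Nat.card H = Nat.card K → ∃ g : G, K = cj g H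

theorem C1.map (h : C1 G) {X : Type*} [Group X] (f : G →* X) (hf : Function.Surjective f) :
    C1 X := fun H K hc => by
  obtain ⟨g, e⟩ := h (H.comap f) (K.comap f) (by rw [card_comap' hf, card_comap' hf, hc])
  refine ⟨f g, ?_⟩
  rw [← map_comap_eq_self_of_surjective hf K, e, map_cj', map_comap_eq_self_of_surjective hf]

theorem C1.not_wit (h : C1 G) : ¬ Wit G := by
  rintro ⟨t, s, x, ht, hs, hx, x1, hc, hi⟩
  have h1 : ¬ s * x = x * s := fun k => x1 (eq_one_of_sq hx (by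
    rw [k, mul_inv_cancel_right] at hi; nth_rw 1 [hi]; exact inv_mul_cancel x))
  have s2 : orderOf s = 2 := orderOf_eq_prime (by rw [sq, hs]) fun k => h1 (by simp [k])
  have hco : (orderOf t).Coprime (orderOf x) := ht ▸ Nat.coprime_two_left.2 hx
  obtain ⟨g, e⟩ := h (zpowers (t * x)) (zpowers x ⊔ zpowers s) (by
    rw [Core.card_sup_of_disjoint (zpowers_le.2 (cj_eq_self_iff.1 (by
      rw [cj, MonoidHom.map_zpowers, ← zpowers_inv (g := x), ← hi]; rfl)))
      (disjoint_of_coprime_natCard (by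
        rw [Nat.card_zpowers, Nat.card_zpowers, s2, ← ht]; exact hco.symm)), Nat.card_zpowers,
      Nat.card_zpowers, Nat.card_zpowers, Commute.orderOf_mul_eq_mul_orderOf_of_coprime hc hco,
      ht, s2, mul_comm])
  rw [cj, MonoidHom.map_zpowers] at e
  obtain ⟨i, hi⟩ : x ∈ zpowers _ := e ▸ mem_sup_left (mem_zpowers x)
  obtain ⟨j, hj⟩ : s ∈ zpowers _ := e ▸ mem_sup_right (mem_zpowers s)
  exact h1 (hi ▸ hj ▸ zpow_mul_comm _ _ _)

theorem C1.five {F : Type*} [Field F] [Fintype F] (h : C1 PSL(2, F))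
    (h8 : Fintype.card F % 8 = 3 ∨ Fintype.card F % 8 = 5) (h5 : 5 ≤ Fintype.card F) :
    Fintype.card F = 5 := by
  have h4 : 4 ≤ Nat.card F := by rw [Nat.card_eq_fintype_card]; omega
  haveI := Matrix.ProjectiveSpecialLinearGroup.rank_two_simple h4
  obtain ⟨S⟩ : Nonempty (Sylow 2 PSL(2, F)) := inferInstance
  have h1 := Inv.card_psl2_odd (F := F) (by omega)
  have h2 : Nat.card PSL(2, F) % 8 = 4 := by
    generalize Fintype.card F = q at *
    have h2 : q ^ 2 % 16 = 9 := by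
      have : q % 16 = 3 ∨ q % 16 = 5 ∨ q % 16 = 11 ∨ q % 16 = 13 := by omega
      rcases this with k | k | k | k <;> simp [Nat.pow_mod, k]
    have h3 : q * (q ^ 2 - 1) % 16 = 8 := by
      rw [Nat.mul_mod, show (q ^ 2 - 1) % 16 = 8 by omega]; omega
    omega
  rcases GsC.four_cases (Inv.psl2_not_comm h4) ⟨S, GLBasic.sylow_card_of_eq S (k := 2)
    (m := Nat.card PSL(2, F) / 4) (by omega) (by omega)⟩ with
    ⟨K, _, _, hK, ⟨e⟩⟩ | ⟨a, -, b, -, x, -, a2, b2, -, -, x1, hx, hc, hi⟩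
  · have := Inv.card_psl2_odd (F := K) (by omega)
    rw [hK, ← Nat.card_congr e.toEquiv] at this
    exact GsC.five_of_card (by omega) h5 (by omega)
  · exact absurd ⟨a, b, x, a2, (sq b).symm.trans (orderOf_dvd_iff_pow_eq_one.1 b2.dvd), hx, x1, hc.symm, hi⟩ h.not_wit

end Cfsg.Agent.DP
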