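import Mathlib
import Cfsg.Agent.DP.Basic
import Cfsg.Agent.Core.AbConj
import Cfsg.Agent.Core.Hall

/-! Solvable groups in which subgroups of the same order are conjugate. -/

set_option autoImplicit false
set_option linter.unusedSectionVars false

namespace Cfsg.Agent.DP

open Subgroup Cfsg.Agent.GW Cfsg.Agent.LocalEven Cfsg.Agent.BG Cfsg.Agent.Gs
open scoped commutatorElement

universe u

variable {G : Type*} [Group G] [Finite G] {p : ℕ} {H K M N : Subgroup G}

/-- Subgroups of the same order are conjugate. -/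
def C0 (G : Type*) [Group G] : Prop :=
  ∀ H K : Subgroup G, Nat.card H = Nat.card K → ∃ g : G, K = cj g H

/-- The `p`-subgroups are cyclic. -/
def Cy (p : ℕ) (G : Type*) [Group G] : Prop := ∀ Q : Subgroup G, IsPGroup p Q → IsCyclic Q

theorem Cy.of_sylow [Fact p.Prime] (h : ∀ P : Sylow p G, IsCyclic P) : Cy p G := fun Q hQ => by
  obtain ⟨P, hP⟩ := hQ.exists_le_sylow
  haveI := h P
  exact isCyclic_of_injective _ (inclusion_injective hP)

theorem Cy.sub (h : Cy p G) (M : Subgroup G) : Cy p M := fun Q hQ =>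
  haveI := h _ (hQ.map M.subtype)
  isCyclic_of_surjective _ (Q.equivMapOfInjective _ M.subtype_injective).symm.surjective

theorem Cy.map [Fact p.Prime] (h : Cy p G) {X : Type*} [Group X] (f : G →* X)
    (hf : Function.Surjective f) : Cy p X := fun Q hQ => by
  obtain ⟨P, hP⟩ := exists_isSylowIn p (Q.comap f)
  have h1 := hP.map f
  rw [map_comap_eq_self_of_surjective hf] at h1
  haveI := h P hP.pgrp
  rw [← h1.eq_of_isPGroup hQ]
  exact isCyclic_of_surjective _ (f.subgroupMap_surjective P)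

theorem Cy.d1 [Fact p.Prime] (h : Cy p G) : D1 p G := fun H K hH hK e => by
  obtain ⟨P, hP, h1⟩ := exists_isSylowIn_le hK (le_top (a := K))
  obtain ⟨g, -, hg⟩ := hP.exists_cj_le hH le_top
  exact ⟨g, Amb.eq_of_card_eq_of_cyclic (h P hP.pgrp) h1 hg (by rw [card_cj, e])⟩

theorem C0.rel [N.Normal] (h : C0 (M ⧸ N.subgroupOf M)) (hH : N ≤ H) (hHM : H ≤ M) (hK : N ≤ K)
    (hKM : K ≤ M) (e : Nat.card H = Nat.card K) : ∃ g ∈ M, K = cj g H := by
  have hs := QuotientGroup.mk'_surjective (N.subgroupOf M)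
  have k : ∀ {A : Subgroup M}, N.subgroupOf M ≤ A →
      (A.map (QuotientGroup.mk' _)).comap (QuotientGroup.mk' (N.subgroupOf M)) = A := fun hA =>
    comap_map_eq_self (by rwa [QuotientGroup.ker_mk'])
  obtain ⟨g, hg⟩ := h ((H.subgroupOf M).map (QuotientGroup.mk' _))
    ((K.subgroupOf M).map (QuotientGroup.mk' _)) (Nat.eq_of_mul_eq_mul_left Nat.card_pos (by
      rw [← card_comap' hs, ← card_comap' hs, k (subgroupOf_mono M hH), k (subgroupOf_mono M hK),
        card_subgroupOf hHM, card_subgroupOf hKM, e]))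
  obtain ⟨g, rfl⟩ := hs g
  rw [← map_cj'] at hg
  have h1 := congrArg (comap (QuotientGroup.mk' (N.subgroupOf M))) hg
  rw [k (subgroupOf_mono M hK), k ((cj_eq_of_mem_normalizer (le_normalizer_of_normal (mem_top g))).ge.trans
    (cj_mono g (subgroupOf_mono M hH)))] at h1
  refine ⟨g, g.2, ?_⟩
  rw [← map_subgroupOf_eq_of_le hKM, h1, map_cj', map_subgroupOf_eq_of_le hHM]
  rfl

theorem lift [Group.IsSolvable G] [N.Normal] (hN : N ≤ 𝐂(N)) (hV : K ⊓ N = H ⊓ N)
    (e : Nat.card H = Nat.card K) (hq : N ≤ H ∨ (Nat.card N).Coprime (N.relIndex H))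
    (hC : C0 (𝐍((H ⊓ N : Subgroup G)) ⧸ N.subgroupOf _)) : ∃ g, K = cj g H := by
  have n1 : ∀ A : Subgroup G, A ⊔ N ≤ 𝐍((A ⊓ N : Subgroup G)) := fun A => sup_le
    (Amb.le_norm_inf le_normalizer le_normalizer_of_normal)
    ((hN.trans (cent_anti inf_le_right)).trans (cent_le_norm' _))
  have c1 : ∀ A : Subgroup G, Nat.card (N ⊔ A : Subgroup G) * Nat.card (N ⊓ A : Subgroup G) =
    Nat.card N * Nat.card A := fun A => Core.card_sup_mul_card_inf le_normalizer_of_normal
  obtain ⟨g, hg, h1⟩ := hC.rel le_sup_right (n1 H) le_sup_right (hV ▸ n1 K)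
    (Nat.eq_of_mul_eq_mul_right (Nat.card_pos (α := (N ⊓ H : Subgroup G))) (by
      rw [sup_comm, c1, sup_comm, inf_comm, ← hV, inf_comm, c1, e]))
  rcases hq with hq | hq
  · rw [sup_eq_left.2 hq, sup_eq_left.2 (inf_eq_right.1 (hV.trans (inf_eq_right.2 hq)))] at h1
    exact ⟨g, h1⟩
  obtain ⟨Y, hY, -, h2, h3⟩ := Core.exists_complement_in (H ⊓ N) H inf_le_left
    (le_sup_left.trans (n1 H)) (by
      rw [inf_comm, inf_relIndex_right]; exact hq.coprime_dvd_left (card_dvd_of_le inf_le_left))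
  rw [inf_comm, inf_relIndex_right] at h3
  obtain ⟨k, hk, h4⟩ := Core.exists_conj_le_of_coprime_relIndex (M := K ⊔ N) inferInstance (cj g Y) K
    (h1 ▸ cj_mono g (hY.trans le_sup_left)) (by
      rw [card_cj, h3]
      refine hq.symm.coprime_dvd_right ⟨Nat.card (N ⊓ K : Subgroup G),
        Nat.eq_of_mul_eq_mul_left (Nat.card_pos (α := K)) ?_⟩
      rw [← mul_assoc, Core.card_mul_relIndex le_sup_left, sup_comm, c1, mul_comm])
  refine ⟨k * g, (eq_of_le_of_card_le ?_ (by rw [card_cj, e])).symm⟩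
  rw [← h2, cj_sup, cj_eq_of_mem_normalizer (mul_mem (hV ▸ n1 K hk) hg), cj_mul]
  exact sup_le (hV ▸ inf_le_left) h4

theorem card_quot_lt [N.Normal] (h : N ≠ ⊥) (hM : N ≤ M) :
    Nat.card (M ⧸ N.subgroupOf M) < Nat.card G := by
  have h1 := (N.subgroupOf M).card_eq_card_quotient_mul_card_subgroup
  rw [card_subgroupOf hM] at h1
  have h2 := (one_lt_card_iff_ne_bot N).2 h
  have h3 := Nat.le_of_dvd Nat.card_pos (card_subgroup_dvd_card M)
  have h4 : 0 < Nat.card (M ⧸ N.subgroupOf M) := Nat.card_pos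
  nlinarith

/-- The case of a normal subgroup of prime order. -/
theorem lift_prime [Group.IsSolvable G] [Fact p.Prime] [N.Normal] (hN : Nat.card N = p)
    (hm : ∀ x : G, x ^ p = 1 → x ∈ N) (hC : C0 ((⊤ : Subgroup G) ⧸ N.subgroupOf _)) : C0 G := by
  intro H K e
  have hc : N ≤ 𝐂(N) := le_centralizer_iff_isMulCommutative.2
    (isCyclic_of_prime_card hN).isMulCommutative
  have k : ∀ A : Subgroup G, p ∣ Nat.card A → N ≤ A := fun A hA => by
    obtain ⟨x, hx, h⟩ := exists_mem_orderOf_eq hA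
    exact (eq_of_le_of_card_le (zpowers_le.2 (hm x (h ▸ pow_orderOf_eq_one x))) (by
      rw [Nat.card_zpowers, h, hN])).ge.trans (zpowers_le.2 hx)
  have k2 : ∀ A : Subgroup G, ¬ p ∣ Nat.card A → A ⊓ N = ⊥ := fun A hA =>
    inf_eq_bot_of_coprime (hN ▸ ((Nat.Prime.coprime_iff_not_dvd Fact.out).2 hA).symm)
  by_cases h : p ∣ Nat.card H
  · have h1 := inf_eq_right.2 (k H h)
    refine lift hc ((inf_eq_right.2 (k K (e ▸ h))).trans h1.symm) e (.inl (k H h)) ?_
    rwa [h1, normalizer_eq_top]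
  · refine lift hc ((k2 K (e ▸ h)).trans (k2 H h).symm) e (.inr (hN ▸ (Nat.Prime.coprime_iff_not_dvd
      Fact.out).2 fun k => h (k.trans (relIndex_dvd_card _ _)))) ?_
    rwa [k2 H h, normalizer_eq_top]

theorem card_inf_hall [N.Normal] (h : (Nat.card N).Coprime N.index) (e : Nat.card H = Nat.card K) :
    Nat.card (H ⊓ N : Subgroup G) = Nat.card (K ⊓ N : Subgroup G) := by
  have k : ∀ A : Subgroup G, Nat.card (A ⊓ N : Subgroup G) = (Nat.card A).gcd (Nat.card N) := fun A => by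
    refine Nat.dvd_antisymm (Nat.dvd_gcd (card_dvd_of_le inf_le_left) (card_dvd_of_le inf_le_right))
      (Nat.Coprime.dvd_of_dvd_mul_right (k := _) (n := N.relIndex A)
        ((h.coprime_dvd_left (Nat.gcd_dvd_right _ _)).coprime_dvd_right (relIndex_dvd_index_of_normal _ _)) ?_)
    rw [← inf_relIndex_right, inf_comm A, Core.card_mul_relIndex inf_le_right]
    exact Nat.gcd_dvd_left _ _
  rw [k, k, e]

/-- The case of an abelian normal Hall subgroup. -/
theorem lift_hall [Group.IsSolvable G] [N.Normal] (hN : N ≤ 𝐂(N)) (h : (Nat.card N).Coprime N.index)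
    (hV : ∀ V W, V ≤ N → W ≤ N → Nat.card V = Nat.card W → ∃ g : G, W = cj g V)
    (hC : ∀ V, V ≤ N → C0 (𝐍(V) ⧸ N.subgroupOf _)) : C0 G := by
  intro H K e
  obtain ⟨g, hg⟩ := hV _ _ inf_le_right inf_le_right (card_inf_hall h e)
  have h1 : cj g N = N := cj_eq_of_mem_normalizer (le_normalizer_of_normal (mem_top g))
  rw [cj_inf, h1] at hg
  obtain ⟨k, hk⟩ := lift (H := cj g H) hN hg (by rw [card_cj, e])
    (.inr (h.coprime_dvd_right (relIndex_dvd_index_of_normal _ _))) (hC _ inf_le_right)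
  exact ⟨k * g, by rw [cj_mul, hk]⟩

/-- A normal elementary abelian subgroup has prime order or is a Sylow subgroup. -/
theorem prime_or_hall [Fact p.Prime] [N.Normal] (hE : IsElementaryAbelian p N) (h0 : N ≠ ⊥)
    (hm : ∀ x : G, x ^ p = 1 → x ∈ N) (h : ∀ x : G, orderOf x = p ^ 2 → ∀ V, V ≤ N →
      Nat.card V = p ^ 2 → ∃ g, V = cj g (zpowers x)) :
    Nat.card N = p ∨ (Nat.card N).Coprime N.index := by
  have hP := Core.IsElementaryAbelian.isPGroup hE
  obtain ⟨n, hn⟩ := hP.exists_card_eq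
  rcases n with _ | _ | n
  · exact absurd (card_eq_one.1 hn) h0
  · exact .inl (hn.trans (pow_one p))
  refine .inr (hn ▸ Nat.Coprime.pow_left _ ((Nat.Prime.coprime_iff_not_dvd Fact.out).2 fun k => ?_))
  obtain ⟨y, hy⟩ := exists_prime_orderOf_dvd_card' (G := G ⧸ N) p k
  obtain ⟨x, rfl⟩ := QuotientGroup.mk_surjective y
  have h1 : x ∉ N := fun k => by
    rw [(QuotientGroup.eq_one_iff x).2 k, orderOf_one] at hy
    exact (Fact.out : p.Prime).one_lt.ne hy
  have h2 : x ^ p ∈ N := (QuotientGroup.eq_one_iff _).1 (by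
    rw [QuotientGroup.mk_pow, ← hy, pow_orderOf_eq_one])
  have h3 : orderOf x = p ^ 2 := orderOf_eq_prime_pow (by rw [pow_one]; exact fun k => h1 (hm x k))
    (by rw [pow_succ, pow_one, pow_mul, hE.2 _ h2])
  obtain ⟨V, hV⟩ := Sylow.exists_subgroup_card_pow_prime_of_le_card (n := 2) Fact.out hP
    (by rw [hn]; exact Nat.pow_le_pow_right (Fact.out : p.Prime).pos (by omega))
  obtain ⟨g, e⟩ := h x h3 _ (map_subtype_le V) ((card_map_of_injective N.subtype_injective).trans hV)
  have h4 : g * x * g⁻¹ ∈ N := map_subtype_le V (e ▸ mem_map_of_mem _ (mem_zpowers x))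
  exact h1 (by simpa [mul_assoc] using Normal.conj_mem inferInstance _ h4 g⁻¹)

theorem cy_of_cop [Fact p.Prime] [N.Normal] (h0 : N ≠ ⊥) (hP : IsPGroup p N)
    (h : (Nat.card N).Coprime N.index) : Cy p (M ⧸ N.subgroupOf M) := fun Q hQ => by
  obtain rfl : Q = ⊥ := by
    by_contra k
    exact (Fact.out : p.Prime).one_lt.ne' (Nat.eq_one_of_dvd_coprimes h
      (Core.prime_dvd_card_of_isPGroup hP h0) (((Core.prime_dvd_card_of_isPGroup hQ k).trans
        (card_subgroup_dvd_card Q)).trans (relIndex_dvd_index_of_normal N M)))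
  infer_instance

theorem c0_of_cy (G : Type u) [Group G] [Finite G] : Group.IsSolvable G → (∀ p, p.Prime → D1 p G) →
    ∀ r, (∀ p, p.Prime → p ≠ r → Cy p G) → C0 G := by
  refine Core.induction_on_card (P := fun G _ _ => Group.IsSolvable G → (∀ p, p.Prime → D1 p G) →
    ∀ r, (∀ p, p.Prime → p ≠ r → Cy p G) → C0 G) (fun G _ _ ih hs hD r hr => ?_) G
  by_cases h0 : (⊤ : Subgroup G) = ⊥
  · exact fun H K _ => ⟨1, by rw [cj_one, eq_bot_iff.2 (le_top.trans h0.le : H ≤ ⊥),
      eq_bot_iff.2 (le_top.trans h0.le : K ≤ ⊥)]⟩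
  obtain ⟨N, q, _, hN, -, hq, hE, -⟩ := Core.exists_minimal_normal_elementary_le ⊤ inferInstance h0
  haveI := Fact.mk hq
  have hP := Core.IsElementaryAbelian.isPGroup hE
  have hm : ∀ x : G, x ^ q = 1 → x ∈ N := fun x =>
    (hD q hq).mem (Core.prime_dvd_card_of_isPGroup hP hN)
  have hc := le_centralizer_iff_isMulCommutative.2 hE.1
  by_cases h1 : Nat.card N = q
  · refine lift_prime h1 hm (ih _ (card_quot_lt hN le_top) inferInstance (fun p hp => ?_) r
      fun p hp k => ?_) <;> haveI := Fact.mk hp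
    · exact ((hD p hp).map (topEquiv (G := G)).symm.toMonoidHom topEquiv.symm.surjective).map _ (QuotientGroup.mk'_surjective _)
    · exact ((hr p hp k).sub _).map _ (QuotientGroup.mk'_surjective _)
  have h2 := (prime_or_hall hE hN hm fun x hx V hV e => hD q hq _ _
    (.of_card (by rw [Nat.card_zpowers, hx])) (hP.to_le hV) (by rw [Nat.card_zpowers, hx, e])).resolve_left h1
  obtain rfl : q = r := by
    by_contra k
    haveI := hr q hq k N hP
    obtain ⟨x, hx⟩ := IsCyclic.exists_ofOrder_eq_natCard (α := N)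
    exact h1 (((Nat.dvd_prime hq).1 (hx ▸ orderOf_dvd_of_pow_eq_one (Subtype.ext
      (hE.2 _ x.2)))).resolve_left fun k => hN (card_eq_one.1 k))
  refine lift_hall hc h2 (fun V W hV hW => hD q hq V W (hP.to_le hV) (hP.to_le hW)) fun V hV => ?_
  have hNV : N ≤ 𝐍(V) := (hc.trans (cent_anti hV)).trans (cent_le_norm' _)
  have h3 : ∀ p, p.Prime → Cy p (𝐍(V) ⧸ N.subgroupOf _) := fun p hp => by
    haveI := Fact.mk hp
    by_cases k : p = q
    · subst k
      exact cy_of_cop hN hP h2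
    · exact ((hr p hp k).sub _).map _ (QuotientGroup.mk'_surjective _)
  exact ih _ (card_quot_lt hN hNV) inferInstance (fun p hp => by
    haveI := Fact.mk hp; exact (h3 p hp).d1) q fun p hp _ => h3 p hp

end Cfsg.Agent.DP
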