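import Mathlib
import Cfsg.Agent.DP.Sol
import Cfsg.Agent.Core.CoprimeGen
import Cfsg.Agent.Core.Super
import Cfsg.Agent.BG.Rank
import Cfsg.Agent.GW.NonU2

/-! Solvable groups in which abelian subgroups of the same order are conjugate. -/

set_option autoImplicit false
set_option linter.unusedSectionVars false

namespace Cfsg.Agent.DP

open Subgroup Cfsg.Agent.GW Cfsg.Agent.LocalEven Cfsg.Agent.BG Cfsg.Agent.Gs Cfsg.Agent.Core.AbConj
open scoped commutatorElement

universe u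

section
variable {G : Type u} [Group G] [Finite G] {p q r s : ℕ} {A E N Q R V Y : Subgroup G}

theorem pb_cj (hB : PB G) {a b : G} (e : orderOf a = orderOf b) : ∃ g, zpowers b = cj g (zpowers a) := by
  obtain ⟨g, hg⟩ := hB (zpowers a) (zpowers b) inferInstance inferInstance (by simp [e])
  exact ⟨g, hg.symm⟩

theorem pb_mem (hB : PB G) [N.Normal] {a b : G} (ha : a ∈ N) (e : orderOf a = orderOf b) : b ∈ N := by
  obtain ⟨g, hg⟩ := pb_cj hB e
  exact ((cj_mono g (zpowers_le.2 ha)).trans (cj_eq_of_mem_normalizer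
    (le_normalizer_of_normal (mem_top g))).le) (hg ▸ mem_zpowers b)

theorem card_of_cyc (hp : p.Prime) (hE : IsElementaryAbelian p E) (hc : IsCyclic E) (h0 : E ≠ ⊥) :
    Nat.card E = p := by
  obtain ⟨x, hx⟩ := IsCyclic.exists_ofOrder_eq_natCard (α := E)
  exact ((Nat.dvd_prime hp).1 (hx ▸ orderOf_dvd_of_pow_eq_one (Subtype.ext
    (hE.2 _ x.2)))).resolve_left fun k => h0 (card_eq_one.1 k)

theorem le_fit [Group.IsSolvable G] (h : ∀ s, s.Prime → A ≤ 𝐂(pCore s G)) : A ≤ fittingSubgroup G := by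
  refine le_trans ?_ Core.centralizer_fitting_le
  rw [le_centralizer_iff, Core.fitting_eq_iSup_pCore]
  exact iSup_le fun s => le_centralizer_iff.1 (h s s.2)

/-- Normal elementary abelian subgroups are cyclic. -/
def NC (G : Type*) [Group G] : Prop :=
  ∀ (E : Subgroup G) (s : ℕ), s.Prime → E.Normal → IsElementaryAbelian s E → IsCyclic E

theorem ptype [Group.IsSolvable G] (hB : PB G) (hE : NC G) (hs : s.Prime) :
    pCore s G = ⊥ ∨ ∃ E : Subgroup G, Nat.card E = s ∧ (∀ x : G, x ^ s = 1 → x ∈ E) ∧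
      (IsCyclic (pCore s G) ∨ s = 2 ∧ Nat.card (pCore s G) = 8) := by
  haveI := Fact.mk hs
  refine or_iff_not_imp_left.2 fun h0 => ?_
  obtain ⟨E, t, _, h1, h2, ht, h3, -⟩ :=
    Core.exists_minimal_normal_elementary_le (pCore s G) inferInstance h0
  haveI := Fact.mk ht
  obtain rfl : t = s := by
    by_contra k
    exact h1 (disjoint_self.1 (IsPGroup.disjoint_of_ne t s k _ _
      (Core.IsElementaryAbelian.isPGroup h3) ((Core.pCore_isPGroup s).to_le h2)))
  have h4 := card_of_cyc ht h3 (hE E t ht inferInstance h3) h1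
  refine ⟨E, h4, fun x => mem_of_pow hB h1 h3, ?_⟩
  rcases cyc_or hB h1 h3 h4 (Core.pCore_isPGroup t) with k | ⟨rfl, n, ⟨e⟩⟩
  · exact .inl k
  have h5 := sylow_small hB inferInstance h1 h3 h4 (Core.pCore_isPGroup 2) e
  interval_cases n
  · haveI := QuaternionGroup.quaternionGroup_one_isCyclic
    exact .inl (isCyclic_of_surjective e.symm e.symm.surjective)
  · exact .inr ⟨rfl, by rw [Nat.card_congr e.toEquiv, Nat.card_eq_fintype_card, QuaternionGroup.card]; rfl⟩

theorem yA [Group.IsSolvable G] (hB : PB G) (hE : NC G) (hr : r.Prime) (hR : IsElementaryAbelian r R) :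
    IsCyclic R := by
  by_contra hc
  haveI := Fact.mk hr
  have hP := Core.IsElementaryAbelian.isPGroup hR
  have h0 : pCore r G = ⊥ := (ptype hB hE hr).resolve_right fun ⟨E, h1, h2, _⟩ =>
    haveI := isCyclic_of_prime_card h1
    hc (isCyclic_of_injective _ (inclusion_injective fun x hx => h2 x (hR.2 x hx)))
  have R0 : R ≠ ⊥ := fun k => hc (k ▸ inferInstance)
  refine R0 (le_bot_iff.1 (h0 ▸ Core.le_pCore_of_le_fitting hP (le_fit fun s hs => ?_)))
  haveI := Fact.mk hs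
  by_cases hsr : s = r
  · rw [hsr, h0]; exact Core.le_centralizer_bot _
  by_contra hn
  have ho : ∀ a ∈ R, a ≠ 1 → orderOf a = r := fun a ha => orderOf_eq_prime (hR.2 a ha)
  have k1 : ∀ a ∈ R, a ≠ 1 → ¬ pCore s G ≤ cz a := fun a ha a1 k => hn fun b hb => by
    by_cases b1 : b = 1
    · exact b1 ▸ one_mem _
    · exact pb_mem hB (fun x hx => mem_cz.1 (k hx)) ((ho a ha a1).trans (ho b hb b1).symm)
  have hco := IsPGroup.coprime_card_of_ne r s (Ne.symm hsr) _ _ hP (Core.pCore_isPGroup (G := G) s)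
  have gen := fun L : Subgroup G => Core.le_of_centralizers (L := L) hR.1 hc le_normalizer_of_normal hco
  obtain ⟨a, ha, a1⟩ := (bot_or_exists_ne_one R).resolve_left R0
  rcases ptype hB hE hs with k | ⟨E, h1, h2, k | ⟨rfl, h8⟩⟩
  · exact k1 a ha a1 (k ▸ bot_le)
  · refine k1 a ha a1 (gen _ fun b hb b1 => le_trans (Amb.eq_of_card_eq_of_cyclic k inf_le_left
      (inf_le_left (b := cz a)) ?_).le inf_le_right)
    obtain ⟨g, hg⟩ := pb_cj hB ((ho a ha a1).trans (ho b hb b1).symm)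
    change Nat.card (_ ⊓ cz b : Subgroup G) = _
    rw [← card_cj g (_ ⊓ cz a), cj_inf, cj_eq_of_mem_normalizer (le_normalizer_of_normal (mem_top g)),
      ← cent_zpowers, ← cent_zpowers, cj_centralizer, hg]
  have h3 := card_le_of_le (gen E fun b hb b1 x hx => h2 x ?_)
  · omega
  have h4 := card_dvd_of_le (inf_le_left : pCore 2 G ⊓ cz b ≤ _)
  rw [h8] at h4
  obtain ⟨j, hj, e⟩ := (Nat.dvd_prime_pow Nat.prime_two).1 (show _ ∣ 2 ^ 3 from h4)
  have h5 := orderOf_dvd_natCard (⟨x, hx⟩ : (pCore 2 G ⊓ cz b : Subgroup G))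
  rw [orderOf_mk, e] at h5
  interval_cases j
  · exact orderOf_dvd_iff_pow_eq_one.1 (h5.trans (by norm_num))
  · exact orderOf_dvd_iff_pow_eq_one.1 h5
  · have h6 : ((cz b).subgroupOf (pCore 2 G)).index = 2 := by
      have := Core.card_mul_relIndex (inf_le_left : pCore 2 G ⊓ cz b ≤ _)
      rw [e, h8, inf_comm, inf_relIndex_right] at this
      exact Nat.eq_of_mul_eq_mul_left (by norm_num) this
    have h7 := Core.le_centralizer_of_commutator_le_of_centralizes (zpowers b) (pCore 2 G)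
      (pCore 2 G ⊓ cz b) ((hco.coprime_dvd_left (card_dvd_of_le (zpowers_le.2 hb))).coprime_dvd_right
        (card_dvd_of_le inf_le_left)) (zpowers_le.2 fun y hy => mem_cz.1 hy.2)
      (Subgroup.commutator_le.2 fun y hy c hc => ?_)
    · exact absurd (fun y hy => mem_cz.2 (h7 (mem_zpowers b) y hy)) (k1 b hb b1)
    have h9 : c * y⁻¹ * c⁻¹ ∈ pCore 2 G := Normal.conj_mem inferInstance _ (inv_mem hy) c
    have h10 : c ∈ cz b := zpowers_le.2 (mem_cz.2 rfl) hc
    have h11 := (mul_mem_iff_of_index_two h6 (a := ⟨y, hy⟩) (b := ⟨_, h9⟩)).2 (by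
      simp only [mem_subgroupOf, mul_mem_cancel_right (inv_mem h10), mul_mem_cancel_left h10, inv_mem_iff])
    rw [commutatorElement_def, mul_assoc, mul_assoc, ← mul_assoc c]
    exact ⟨mul_mem hy h9, h11⟩
  · exact absurd ((eq_of_le_of_card_le inf_le_left (by rw [e, h8]; rfl)).ge.trans inf_le_right) (k1 b hb b1)

theorem yB [Group.IsSolvable G] (hB : PB G) (hE : NC G) (hQ : IsPGroup 2 Q) {i j : G} (hi : i ∈ Q)
    (hj : j ∈ Q) (i4 : orderOf i = 4) (j4 : orderOf j = 4) (hn : i * j ≠ j * i) :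
    i ∈ pCore 2 G ∧ j ∈ pCore 2 G := by
  suffices h : ∃ x ∈ pCore 2 G, orderOf x = 4 by
    obtain ⟨x, hx, x4⟩ := h
    exact ⟨pb_mem hB hx (x4.trans i4.symm), pb_mem hB hx (x4.trans j4.symm)⟩
  by_contra! h
  have h1 : ∀ x ∈ pCore 2 G, x ^ 2 = 1 := fun x hx => by
    obtain ⟨k, hk⟩ := IsPGroup.iff_orderOf.1 (Core.pCore_isPGroup (G := G) 2) ⟨x, hx⟩
    rw [orderOf_mk] at hk
    rcases k with _ | _ | k
    · rw [orderOf_eq_one_iff.1 hk, one_pow]
    · exact orderOf_dvd_iff_pow_eq_one.1 hk.dvd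
    · exact absurd (by rw [orderOf_pow' _ (by positivity), hk, Nat.gcd_eq_right ⟨4, by ring⟩,
        pow_succ, pow_succ, mul_assoc, Nat.mul_div_cancel_left (2 * 2) (by positivity)])
        (h _ (pow_mem hx (2 ^ k)))
  have h2 : IsElementaryAbelian 2 (pCore 2 G) := ⟨Core.isMulCommutative_of_forall fun x hx y hy =>
    Gs.comm_of_sq (fun x hx => (sq x).symm.trans (h1 x hx)) hx hy, h1⟩
  have h3 := hE _ 2 Nat.prime_two inferInstance h2
  have h4 : commutator G ≤ fittingSubgroup G := le_fit fun s hs => by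
    haveI : IsCyclic (pCore s G) := by
      rcases ptype hB hE hs with k | ⟨-, -, -, k | ⟨rfl, -⟩⟩
      exacts [k ▸ inferInstance, k, h3]
    exact Core.commutator_le_centralizer_of_isCyclic _
  obtain ⟨g, hg⟩ := pb_cj hB (i4.trans j4.symm)
  have h5 : g * i * g⁻¹ ∈ zpowers j := hg ▸ mem_map_of_mem _ (mem_zpowers i)
  have h6 : ⁅g, i⁆ ∈ pCore 2 G := Core.le_pCore_of_le_fitting (hQ.to_le (inf_le_left (b := fittingSubgroup G)))
    inf_le_right (mem_inf.2 ⟨mul_mem (zpowers_le.2 hj h5) (inv_mem hi),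
      h4 (commutator_mem_commutator trivial trivial)⟩)
  have h7 : i * ⁅g, i⁆ * i⁻¹ = ⁅g, i⁆ := by
    by_cases k : ⁅g, i⁆ = 1
    · simp [k]
    obtain ⟨y, -, hy⟩ := (Nat.card_eq_two_iff' (1 : pCore 2 G)).1 (card_of_cyc Nat.prime_two h2 h3
      fun e => k (mem_bot.1 (e ▸ h6)))
    exact congrArg Subtype.val ((hy ⟨_, Normal.conj_mem inferInstance _ h6 i⟩ fun e => k (by
      simpa [mul_inv_eq_one] using congrArg Subtype.val e)).trans
      (hy ⟨_, h6⟩ fun e => k (congrArg Subtype.val e)).symm)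
  have h8 : j ∈ cz i := by
    have : cj g (zpowers i) ≤ cz i := by
      rw [cj, MonoidHom.map_zpowers]
      refine zpowers_le.2 (mem_cz.2 ?_)
      rw [mul_inv_eq_iff_eq_mul, commutatorElement_def] at h7
      simpa [mul_assoc] using congrArg (· * i) h7.symm
    exact this (hg ▸ mem_zpowers j)
  exact hn (mem_cz.1 h8).symm

/-- A self-centralising normal elementary abelian Sylow subgroup with a complement. -/
structure XS (q : ℕ) (N Y : Subgroup G) : Prop where
  pb : PB G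
  el : IsElementaryAbelian q N
  ne : N ≠ ⊥
  cent : 𝐂(N) ≤ N
  co : N.IsComplement' Y
  cop : (Nat.card N).Coprime N.index

namespace XS
variable [N.Normal] [Fact q.Prime] (h : XS q N Y)
include h

theorem dec (g : G) : ∃ n ∈ N, ∃ y ∈ Y, g = n * y := by
  obtain ⟨⟨n, y⟩, e⟩ := h.co.2 g
  exact ⟨n, n.2, y, y.2, e.symm⟩

theorem one {x : G} (h1 : x ∈ N) (h2 : x ∈ Y) : x = 1 := disjoint_def.1 h.co.disjoint h1 h2

theorem copY (hA : A ≤ Y) : (Nat.card A).Coprime (Nat.card N) :=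
  (h.co.symm.index_eq_card ▸ h.cop.symm).coprime_dvd_left (card_dvd_of_le hA)

theorem pbY : PB Y := fun A B hA hB e => by
  obtain ⟨g, hg⟩ := h.pb (A.map Y.subtype) (B.map Y.subtype) inferInstance inferInstance (by
    rw [card_map_subtype, card_map_subtype, e])
  obtain ⟨n, hn, y, hy, rfl⟩ := h.dec g
  refine ⟨⟨y, hy⟩, eq_of_le_of_card_le ?_ (by rw [Core.card_conj_smul, e])⟩
  rintro - ⟨a, ha, rfl⟩
  obtain ⟨b, hb, e⟩ : n * y * a * (n * y)⁻¹ ∈ B.map Y.subtype :=
    hg ▸ mem_map_of_mem _ (mem_map_of_mem _ ha)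
  have h1 : (y * a * y⁻¹ : G) ∈ Y := mul_mem (mul_mem hy a.2) (inv_mem hy)
  have h2 := h.one (x := b * (y * a * y⁻¹)⁻¹) (by
    rw [show (b : G) = _ from e]
    simpa [mul_assoc] using mul_mem hn (Normal.conj_mem inferInstance _ (inv_mem hn) (y * a * y⁻¹)))
    (mul_mem b.2 (inv_mem h1))
  exact show (⟨_, h1⟩ : Y) ∈ B from (Subtype.ext (mul_inv_eq_one.1 h2) : b = ⟨_, h1⟩) ▸ hb

theorem trans {V W : Subgroup G} (hV : V ≤ N) (hW : W ≤ N) (e : Nat.card V = Nat.card W) :
    ∃ y ∈ Y, W = cj y V := by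
  obtain ⟨g, hg⟩ := h.pb V W (Core.isMulCommutative_of_le h.el.1 hV)
    (Core.isMulCommutative_of_le h.el.1 hW) e
  obtain ⟨n, hn, y, hy, rfl⟩ := h.dec g
  refine ⟨y, hy, hg.symm.trans ((cj_mul n y V).trans (cj_eq_of_mem_normalizer (cent_le_norm' _
    (cent_anti ((cj_mono y hV).trans (cj_eq_of_mem_normalizer
      (le_normalizer_of_normal (mem_top y))).le) (le_centralizer_iff_isMulCommutative.2 h.el.1 hn)))))⟩

theorem ncY : NC Y := fun E' s hs _ hE' => by
  by_contra hc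
  have hE := Core.IsElementaryAbelian.map hE' Y.subtype
  set E := E'.map Y.subtype
  have hY : E ≤ Y := map_subtype_le _
  have hn : Y ≤ 𝐍(E) := fun y hy => cj_eq_self_iff.1 (by
    rw [show cj y E = (cj (⟨y, hy⟩ : Y) E').map Y.subtype from (map_cj' Y.subtype ⟨y, hy⟩ E').symm,
      cj_eq_of_mem_normalizer (le_normalizer_of_normal (mem_top _))])
  have ho : ∀ v ∈ N, v ≠ 1 → orderOf v = q := fun v hv => orderOf_eq_prime (h.el.2 v hv)
  obtain ⟨a, ha, a1, v₀, hv₀, v1⟩ : ∃ a ∈ E, a ≠ 1 ∧ ∃ v ∈ N ⊓ cz a, v ≠ 1 := by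
    by_contra! k
    exact h.ne (le_bot_iff.1 (Core.le_of_centralizers hE.1 (fun k => hc (isCyclic_of_surjective _
      (E'.equivMapOfInjective _ Y.subtype_injective).symm.surjective)) le_normalizer_of_normal
      (h.copY hY) fun a ha a1 v hv => k a ha a1 v hv))
  obtain ⟨v, hv, hm⟩ := Set.exists_min_image (N : Set G) (fun v => Nat.card (E ⊓ cz v : Subgroup G))
    (Set.toFinite _) ⟨1, one_mem _⟩
  obtain ⟨x, hx, x1⟩ : ∃ x ∈ E ⊓ cz v, x ≠ 1 := by
    by_cases e : v = 1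
    · exact ⟨a, mem_inf.2 ⟨ha, mem_cz.2 (by simp [e])⟩, a1⟩
    obtain ⟨y, hy, e⟩ := h.trans (zpowers_le.2 hv₀.1) (zpowers_le.2 hv) (by
      rw [Nat.card_zpowers, Nat.card_zpowers, ho _ hv₀.1 v1, ho v hv e])
    refine ⟨y * a * y⁻¹, mem_inf.2 ⟨(mem_normalizer_iff.1 (hn hy) a).1 ha, ?_⟩,
      by simpa [mul_inv_eq_one] using a1⟩
    rw [← cent_zpowers, e, ← cj_centralizer, cent_zpowers]
    exact mem_map_of_mem _ (mem_cz.2 (mem_cz.1 hv₀.2).symm)
  have hx' := zpowers_le.2 (mem_inf.1 hx).1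
  have hJ := Core.centralizer_inf_commutator_eq_bot (zpowers x) N h.el.1 le_normalizer_of_normal
    (h.copY (hx'.trans hY))
  obtain ⟨w, hw, w1⟩ := (bot_or_exists_ne_one ⁅N, zpowers x⁆).resolve_left fun k => x1 (h.one
    (h.cent (Core.le_centralizer_iff_commutator_eq_bot.2 k (mem_zpowers x))) (hY hx.1))
  have hwN := commutator_le_left _ _ hw
  have hE2 : E ≤ 𝐂(zpowers x) := (le_centralizer_iff_isMulCommutative.2 hE.1).trans (cent_anti hx')
  have hv2 : v ∈ N ⊓ 𝐂(zpowers x) := mem_inf.2 ⟨hv, by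
    rw [cent_zpowers]; exact mem_cz.2 (mem_cz.1 hx.2).symm⟩
  have key : ∀ y ∈ E ⊓ cz (v * w), y ∈ cz v ∧ y ∈ cz w := fun y hy => by
    have h1 : y ∈ 𝐍((N ⊓ 𝐂(zpowers x) : Subgroup G)) := Amb.le_norm_inf le_normalizer_of_normal
      (hE2.trans le_normalizer) hy.1
    have h2 : y ∈ 𝐍((⁅N, zpowers x⁆ : Subgroup G)) := Amb.le_norm_comm le_normalizer_of_normal
      (hE2.trans (cent_le_norm' _)) hy.1
    have h3 : v⁻¹ * (y * v * y⁻¹) = w * (y * w * y⁻¹)⁻¹ := by
      have := mem_cz.1 hy.2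
      rw [inv_mul_eq_iff_eq_mul, ← mul_assoc v, eq_mul_inv_iff_mul_eq, ← mul_inv_eq_iff_eq_mul.2 this]
      group
    have h4 : v⁻¹ * (y * v * y⁻¹) = 1 := mem_bot.1 (hJ ▸ mem_inf.2
      ⟨mul_mem (inv_mem hv2) ((mem_normalizer_iff.1 h1 v).1 hv2),
        h3 ▸ mul_mem hw (inv_mem ((mem_normalizer_iff.1 h2 w).1 hw))⟩)
    exact ⟨mem_cz.2 (mul_inv_eq_iff_eq_mul.1 (inv_mul_eq_one.1 h4).symm),
      mem_cz.2 (mul_inv_eq_iff_eq_mul.1 (mul_inv_eq_one.1 (h3 ▸ h4)).symm)⟩
  have h5 := eq_of_le_of_card_le (H := E ⊓ cz (v * w)) (K := E ⊓ cz v)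
    (fun y hy => mem_inf.2 ⟨hy.1, (key y hy).1⟩) (hm _ (mul_mem hv hwN))
  exact w1 (mem_bot.1 (hJ ▸ mem_inf.2 ⟨mem_inf.2 ⟨hwN, by
    rw [cent_zpowers]; exact mem_cz.2 (mem_cz.1 (key x (h5 ▸ hx)).2).symm⟩, hw⟩))

theorem exists_le [Group.IsSolvable G] [Fact r.Prime] (hr : r ≠ q) (hR : IsPGroup r R) :
    ∃ Y, XS q N Y ∧ R ≤ Y := by
  obtain ⟨g, hg⟩ := Core.exists_conj_le_of_coprime_index R Y (by
    rw [h.co.index_eq_card]
    exact IsPGroup.coprime_card_of_ne r q hr _ _ hR (Core.IsElementaryAbelian.isPGroup h.el))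
  refine ⟨cj g⁻¹ Y, { h with co := isComplement'_of_coprime ?_ ?_ }, cj_le_iff.1 hg⟩
  · rw [card_cj, h.co.card_mul]
  · rw [card_cj]; exact (h.copY le_rfl).symm

theorem cyc [Group.IsSolvable G] [Fact r.Prime] (hr : r ≠ q) (hR : IsElementaryAbelian r R) :
    IsCyclic R := by
  obtain ⟨Y, h, hg⟩ := h.exists_le hr (Core.IsElementaryAbelian.isPGroup hR)
  haveI := yA h.pbY h.ncY (Fact.out : r.Prime) (R := R.subgroupOf Y)
    ⟨haveI := hR.1; inferInstance, fun a ha => Subtype.ext (hR.2 a ha)⟩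
  exact isCyclic_of_surjective _ (subgroupOfEquivOfLe hg).surjective

theorem norm_zp {t : G} (h0 : V ≠ ⊥) (h1 : V < N)
    (ht : ∀ W ≤ N, Nat.card W = Nat.card V → t ∈ 𝐍(W)) {x : G} (hx : x ∈ N) :
    t * x * t⁻¹ ∈ zpowers x := by
  by_contra hy
  set y := t * x * t⁻¹
  have hyN : y ∈ N := Normal.conj_mem inferInstance x hx t
  have hP := Core.IsElementaryAbelian.isPGroup h.el
  have hc := le_centralizer_iff_isMulCommutative.2 h.el.1
  obtain ⟨W, hW, hm⟩ := Finite.exists_le_maximal (p := fun W : Subgroup G => W ≤ N ∧ y ∉ W)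
    ⟨zpowers_le.2 hx, hy⟩
  have k : ∀ u ∈ N, u ∉ W → Nat.card (W ⊔ zpowers u : Subgroup G) = Nat.card W * q := fun u hu h2 =>
    PGrp.card_sup_zpowers Fact.out (cent_le_norm' _ (cent_anti hm.1.1 (hc hu)))
      (h.el.2 u hu ▸ one_mem _) h2
  have h2 : N ≤ W ⊔ zpowers y := fun u hu => by
    by_cases h3 : u ∈ W
    · exact mem_sup_left h3
    have h4 : y ∈ W ⊔ zpowers u := by
      by_contra h4
      exact h3 (hm.2 ⟨sup_le hm.1.1 (zpowers_le.2 hu), h4⟩ le_sup_left (mem_sup_right (mem_zpowers u)))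
    exact (eq_of_le_of_card_le (sup_le le_sup_left (zpowers_le.2 h4)) (by
      rw [k u hu h3, k y hyN hm.1.2])).ge (mem_sup_right (mem_zpowers u))
  obtain ⟨m, e⟩ := (hP.to_le h1.le).exists_card_eq
  obtain ⟨n, e'⟩ := (hP.to_le hm.1.1).exists_card_eq
  have h3 := (Core.card_lt_of_lt h1).trans_le (card_le_of_le h2)
  rw [k y hyN hm.1.2, e, e', ← pow_succ, Nat.pow_lt_pow_iff_right (Fact.out : q.Prime).one_lt] at h3
  obtain ⟨U, h4, h5, h6⟩ := Rank.exists_between_card_pow (p := q) (m := 1) (n := m) hW (by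
    rw [Nat.card_zpowers, orderOf_eq_prime (h.el.2 x hx) fun k => hy (by simp [y, k]), pow_one])
    (Nat.pos_of_ne_zero fun k => h0 (card_eq_one.1 (by rw [e, k, pow_zero])))
    (e' ▸ pow_dvd_pow q (by omega))
  exact hm.1.2 (h5 ((mem_normalizer_iff.1 (ht U (h5.trans hm.1.1) (h6.trans e.symm)) x).1
    (h4 (mem_zpowers x))))

theorem quat [Group.IsSolvable G] (hq : 2 ≠ q) (hQ : IsSylowIn 2 Q ⊤) {i j : G} (hi : i ∈ Q)
    (hj : j ∈ Q) (i4 : orderOf i = 4) (j4 : orderOf j = 4) (h0 : V ≠ ⊥) (h1 : V < N)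
    (hV : Q ≤ 𝐍(V)) : i * j = j * i := by
  by_contra hn
  obtain ⟨Y, h, hY⟩ := h.exists_le hq hQ.pgrp
  obtain ⟨h2, h3⟩ := yB h.pbY h.ncY (Q := Q.subgroupOf Y) (hQ.pgrp.comap_subtype) (i := ⟨i, hY hi⟩)
    (j := ⟨j, hY hj⟩) hi hj (by rw [orderOf_mk, i4]) (by rw [orderOf_mk, j4])
    fun k => hn (congrArg Subtype.val k)
  have h4 : pCore 2 Y ≤ Q.subgroupOf Y := Core.pCore_le_sylow (hQ.mono hY le_top).toSylow
  have key : ∀ t ∈ pCore 2 Y, ∀ x ∈ N, (t : G) ∈ 𝐍(zpowers x) := fun t ht x hx => by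
    have k : ∀ t ∈ pCore 2 Y, t * x * (t : G)⁻¹ ∈ zpowers x := fun t ht =>
      h.norm_zp h0 h1 (fun W hW e => by
        obtain ⟨y, hy, rfl⟩ := h.trans h1.le hW e.symm
        rw [← cj_normalizer, mem_cj]
        exact hV (h4 (Normal.conj_mem' inferInstance t ht ⟨y, hy⟩))) hx
    exact cj_eq_self_iff.1 (eq_of_le_of_card_le (by
      rw [cj, MonoidHom.map_zpowers]; exact zpowers_le.2 (k t ht)) (card_cj _ _).ge)
  refine hn (commutatorElement_eq_one_iff_mul_comm.1 (h.one (h.cent fun x hx => ?_)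
    (mul_mem (mul_mem (mul_mem (hY hi) (hY hj)) (inv_mem (hY hi))) (inv_mem (hY hj)))))
  exact commutator_le_cent_of_cyclic inferInstance (zpowers_le.2 (key _ h2 x hx))
    (zpowers_le.2 (key _ h3 x hx)) (commutator_mem_commutator (mem_zpowers _) (mem_zpowers _)) x
    (mem_zpowers x)

end XS

/-- `O_q(G)` is trivial or an elementary abelian Sylow subgroup. -/
def EH (q : ℕ) (G : Type*) [Group G] : Prop := pCore q G ≠ ⊥ →
  IsElementaryAbelian q (pCore q G) ∧ (Nat.card (pCore q G)).Coprime (pCore q G).index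

theorem syl_of_cop [Fact q.Prime] (h0 : N ≠ ⊥) (hP : IsPGroup q N)
    (h : (Nat.card N).Coprime N.index) : IsSylowIn q N ⊤ := isSylowIn_of_not_dvd le_top hP (by
  rw [relIndex_top_right]
  exact fun k => (Fact.out : q.Prime).one_lt.ne'
    (Nat.eq_one_of_dvd_coprimes h (Core.prime_dvd_card_of_isPGroup hP h0) k))

theorem exists_xs [Group.IsSolvable G] [Fact q.Prime] (hB : PB G) (h : EH q G) (h0 : pCore q G ≠ ⊥) :
    ∃ Y, XS q ((pCore q G).map (QuotientGroup.mk' (pPrimeCore q G))) Y := by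
  have hs := QuotientGroup.mk'_surjective (pPrimeCore q G)
  haveI := Normal.map (inferInstance : (pCore q G).Normal) _ hs
  have h1 := ((h h0).2.coprime_dvd_left (card_map_dvd _ (QuotientGroup.mk' (pPrimeCore q G)))
    ).coprime_dvd_right (Core.index_map_dvd_index hs _)
  have h2 : (pCore q G).map (QuotientGroup.mk' (pPrimeCore q G)) ≠ ⊥ := fun k => h0 (by
    rw [Subgroup.map_eq_bot_iff, QuotientGroup.ker_mk'] at k
    exact (Core.pCore_disjoint_pPrimeCore q).eq_bot_of_le k)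
  have h3 := Core.IsElementaryAbelian.map (h h0).1 (QuotientGroup.mk' (pPrimeCore q G))
  have h4 := Core.IsElementaryAbelian.isPGroup h3
  obtain ⟨Y, hY⟩ := exists_right_complement'_of_coprime h1
  refine ⟨Y, main G hB _ _ hs inferInstance (.inr inferInstance), h3, h2, ?_, hY, h1⟩
  rw [le_antisymm (Core.le_pCore inferInstance h4) ((syl_of_cop h2 h4 h1).le_of_le_normalizer' le_top
    (Core.pCore_isPGroup q) le_normalizer_of_normal)]
  exact Core.centralizer_pCore_le q (Core.pPrimeCore_quotient_pPrimeCore q)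

theorem cyc_of_elem [Group.IsSolvable G] (hB : PB G) (h : ∀ q, q.Prime → EH q G) [Fact r.Prime]
    (h0 : pCore r G = ⊥) (hR : IsElementaryAbelian r R) : IsCyclic R := by
  by_contra hc
  refine hc (le_bot_iff.1 (h0 ▸ Core.le_pCore_of_le_fitting (Core.IsElementaryAbelian.isPGroup hR)
    (le_fit fun q hq => ?_)) ▸ inferInstance)
  haveI := Fact.mk hq
  by_contra hn
  have h1 : pCore q G ≠ ⊥ := fun k => hn (k ▸ Core.le_centralizer_bot _)
  obtain ⟨Y, hY⟩ := exists_xs hB (h q hq) h1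
  haveI := Normal.map (inferInstance : (pCore q G).Normal) _ (QuotientGroup.mk'_surjective (pPrimeCore q G))
  haveI := hY.cyc (fun k => h1 (k ▸ h0)) (Core.IsElementaryAbelian.map hR (QuotientGroup.mk' _))
  refine hc (isCyclic_of_injective ((QuotientGroup.mk' (pPrimeCore q G)).subgroupMap R)
    ((injective_iff_map_eq_one _).2 fun a ha => ?_))
  by_contra a1
  refine hn (le_trans (fun b hb => ?_) (Core.pPrimeCore_le_centralizer_pCore q))
  by_cases b1 : b = 1
  · exact b1 ▸ one_mem _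
  exact pb_mem hB ((QuotientGroup.eq_one_iff a.1).1 (congrArg Subtype.val ha)) ((orderOf_eq_prime
    (hR.2 a a.2) fun k => a1 (Subtype.ext k)).trans (orderOf_eq_prime (hR.2 b hb) b1).symm)

theorem cent_of_quat [Group.IsSolvable G] (hB : PB G) [Fact q.Prime] (h : EH q G) (hq : 2 ≠ q)
    (hQ : IsSylowIn 2 Q ⊤) (e : Q ≃* QuaternionGroup 2) (h0 : V ≠ ⊥) (h1 : V < pCore q G)
    (hV : Q ≤ 𝐍(V)) : Q ≤ 𝐂(pCore q G) := by
  refine le_trans ?_ (Core.pPrimeCore_le_centralizer_pCore q)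
  by_contra hn
  obtain ⟨Y, hY⟩ := exists_xs hB h (ne_bot_of_gt h1)
  have hs := QuotientGroup.mk'_surjective (pPrimeCore q G)
  haveI := Normal.map (inferInstance : (pCore q G).Normal) _ hs
  set f := QuotientGroup.mk' (pPrimeCore q G)
  let φ : QuaternionGroup 2 →* G := Q.subtype.comp e.symm.toMonoidHom
  have hφ : Function.Injective φ := Q.subtype_injective.comp e.symm.injective
  have hm : ∀ w, φ w ∈ Q := fun w => (e.symm w).2
  have hs' : ∀ x ∈ Q, ∃ w, φ w = x := fun x hx => ⟨e ⟨x, hx⟩, by simp [φ]⟩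
  have o4 : ∀ w : QuaternionGroup 2, w ^ 2 ≠ 1 → orderOf (φ w) = 4 := fun w hw => by
    rw [orderOf_injective φ hφ]
    exact orderOf_eq_prime_pow (p := 2) (n := 1) hw (by revert w; decide)
  have k1 : ∀ w : QuaternionGroup 2, w ^ 2 ≠ 1 → f (φ w) ≠ 1 := fun w hw k => hn fun x hx => by
    obtain ⟨v, rfl⟩ := hs' x hx
    have k2 : ∀ v : QuaternionGroup 2, v ^ 2 ≠ 1 → φ v ∈ pPrimeCore q G := fun v hv =>
      pb_mem hB ((QuotientGroup.eq_one_iff _).1 k) ((o4 w hw).trans (o4 v hv).symm)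
    by_cases hv : v ^ 2 = 1
    · rw [← mul_inv_cancel_right v (.xa 0), map_mul]
      exact mul_mem (k2 _ ((by decide : ∀ v : QuaternionGroup 2, v ^ 2 = 1 → (v * .xa 0) ^ 2 ≠ 1) v hv))
        (k2 _ (by decide))
    · exact k2 v hv
  have hd : Disjoint (pCore q G) f.ker := by
    rw [QuotientGroup.ker_mk']; exact Core.pCore_disjoint_pPrimeCore q
  by_cases hz : f (φ (.a 2)) = 1
  · have h2 : ∀ x ∈ Q.map f, x ^ 2 = 1 := by
      rintro - ⟨x, hx, rfl⟩
      obtain ⟨w, rfl⟩ := hs' x hx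
      rw [← map_pow, ← map_pow]
      rcases (by decide : ∀ w : QuaternionGroup 2, w ^ 2 = 1 ∨ w ^ 2 = .a 2) w with k | k <;> rw [k]
      exacts [by rw [map_one, map_one], hz]
    have h3 : IsElementaryAbelian 2 (Q.map f) := ⟨Core.isMulCommutative_of_forall fun x hx y hy =>
      Gs.comm_of_sq (fun x hx => (sq x).symm.trans (h2 x hx)) hx hy, h2⟩
    obtain ⟨y, -, hy⟩ := (Nat.card_eq_two_iff' (1 : Q.map f)).1 (card_of_cyc Nat.prime_two h3
      (hY.cyc hq h3) fun k => k1 (.xa 0) (by decide) (mem_bot.1 (k ▸ mem_map_of_mem f (hm _))))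
    have h4 := fun w hw => congrArg Subtype.val (hy ⟨_, mem_map_of_mem f (hm w)⟩
      fun k => k1 w hw (congrArg Subtype.val k))
    refine k1 (.xa 0 * (.a 1)⁻¹) (by decide) ?_
    rw [map_mul, map_mul, map_inv, map_inv, mul_inv_eq_one]
    exact (h4 _ (by decide)).trans (h4 _ (by decide)).symm
  have o5 : ∀ w : QuaternionGroup 2, w ^ 2 = .a 2 → orderOf (f (φ w)) = 4 := fun w hw =>
    orderOf_eq_prime_pow (p := 2) (n := 1) (by rwa [pow_one, ← map_pow, ← map_pow, hw])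
      (by rw [← map_pow, ← map_pow, show w ^ 2 ^ (1 + 1) = 1 by revert w; decide, map_one, map_one])
  have h5 := hQ.map f
  rw [map_top_of_surjective f hs] at h5
  have h6 := hY.quat hq h5 (mem_map_of_mem f (hm (.a 1))) (mem_map_of_mem f (hm (.xa 0)))
    (o5 _ (by decide)) (o5 _ (by decide)) (V := V.map f)
    (fun k => h0 ((hd.mono_left h1.le).eq_bot_of_le ((Subgroup.map_eq_bot_iff _).1 k)))
    (lt_of_le_of_ne (map_mono h1.le) fun k => h1.not_ge fun x hx => by
      obtain ⟨y, hy, e⟩ : f x ∈ V.map f := k ▸ mem_map_of_mem f hx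
      rwa [← mul_inv_eq_one.1 (disjoint_def.1 hd (mul_mem (h1.le hy) (inv_mem hx)) (by
        rw [MonoidHom.mem_ker, map_mul, map_inv, e, mul_inv_cancel]))])
    ((map_mono hV).trans (le_normalizer_map f))
  refine hz ?_
  rw [show (QuaternionGroup.a 2 : QuaternionGroup 2) = .a 1 * .xa 0 * (.xa 0 * .a 1)⁻¹ by decide]
  simp only [map_mul, map_inv, h6, mul_inv_cancel]

theorem d1_of_amb {M : Subgroup G} (h : ∀ H K, H ≤ M → K ≤ M → IsPGroup p H → IsPGroup p K →
    Nat.card H = Nat.card K → ∃ g ∈ M, K = cj g H) : D1 p M := fun H K hH hK e => by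
  obtain ⟨g, hg, k⟩ := h _ _ (map_subtype_le H) (map_subtype_le K) (hH.map _) (hK.map _) (by
    rw [card_map_subtype, card_map_subtype, e])
  exact ⟨⟨g, hg⟩, map_injective M.subtype_injective (k.trans (map_cj' M.subtype ⟨g, hg⟩ H).symm)⟩

theorem d1_two [Group.IsSolvable G] (hB : PB G) (h : ∀ q, q.Prime → EH q G) (h0 : pCore 2 G = ⊥)
    (hD : ∀ p, p.Prime → D1 p G) (hF : fittingSubgroup G ≤ 𝐂(fittingSubgroup G))
    (hV : V ≤ fittingSubgroup G) : D1 2 𝐍(V) := by
  refine d1_of_amb fun H K hH hK pH pK e => ?_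
  obtain ⟨T, hT, hKT⟩ := exists_isSylowIn_le pK hK
  obtain ⟨m, hm, hHT⟩ := hT.exists_cj_le pH hH
  suffices ∃ g ∈ 𝐍(V), K = cj g (cj m H) by
    obtain ⟨g, hg, k⟩ := this
    exact ⟨g * m, mul_mem hg hm, by rw [cj_mul, k]⟩
  rw [← card_cj m H] at e
  generalize cj m H = H at e hHT
  by_cases hc : IsCyclic T
  · exact ⟨1, one_mem _, by rw [cj_one, Amb.eq_of_card_eq_of_cyclic hc hHT hKT e]⟩
  obtain ⟨P, hP⟩ := hT.pgrp.exists_le_sylow
  have sub : ∀ {A B : Subgroup G}, A ≤ B → IsCyclic B → IsCyclic A := fun k _ =>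
    isCyclic_of_injective _ (inclusion_injective k)
  obtain ⟨ε⟩ := ((S4020.result hD P).resolve_left fun k => hc (sub hP k)).resolve_left
    fun k => hc (sub hP (cyc_of_elem hB h h0 k))
  have c8 : Nat.card P = 2 ^ 3 := by
    rw [Nat.card_congr ε.toEquiv, Nat.card_eq_fintype_card, QuaternionGroup.card]; rfl
  have k4 : ∀ A, A < (P : Subgroup G) → IsCyclic A := fun A hA => by
    by_cases k : ∀ x ∈ A, x ^ 2 = 1
    · exact cyc_of_elem hB h h0 (r := 2) ⟨Core.isMulCommutative_of_forall fun x hx y hy =>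
        Gs.comm_of_sq (fun x hx => (sq x).symm.trans (k x hx)) hx hy, k⟩
    push Not at k
    obtain ⟨x, hx, k⟩ := k
    obtain ⟨j, -, hj⟩ := (Nat.dvd_prime_pow Nat.prime_two).1 (c8 ▸ card_dvd_of_le hA.le)
    have h1 := Core.card_lt_of_lt hA
    rw [hj, c8, Nat.pow_lt_pow_iff_right one_lt_two] at h1
    have h2 : orderOf x ∣ Nat.card A := A.orderOf_dvd_natCard hx
    have h3 := orderOf_eq_prime_pow (p := 2) (n := 1) (x := x) k (orderOf_dvd_iff_pow_eq_one.1
      (h2.trans (hj ▸ pow_dvd_pow 2 (by omega))))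
    refine isCyclic_of_orderOf_eq_card (⟨x, hx⟩ : A) ?_
    rw [orderOf_mk]
    exact Nat.dvd_antisymm h2 (h3 ▸ hj ▸ pow_dvd_pow 2 (by omega))
  obtain rfl : T = P := hP.eq_or_lt.resolve_right fun k => hc (k4 T k)
  rcases hHT.eq_or_lt with rfl | h1
  · exact ⟨1, one_mem _, by rw [cj_one, eq_of_le_of_card_le hKT e.le]⟩
  have h2 : K < P := lt_of_le_of_ne hKT fun k => (Core.card_lt_of_lt h1).ne (k ▸ e)
  set U := V ⊓ 𝐂((P : Subgroup G))
  have hd : ∀ {A}, A ≤ (P : Subgroup G) → Disjoint (fittingSubgroup G) A := fun hA =>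
    disjoint_iff.2 (le_bot_iff.1 (h0 ▸ Core.le_pCore_of_le_fitting
      (P.2.to_le (inf_le_right.trans hA)) inf_le_left))
  have hU : U ≤ fittingSubgroup G := inf_le_left.trans hV
  have hc' : ∀ {A}, A ≤ (P : Subgroup G) → A ≤ 𝐂(U) := fun hA =>
    le_centralizer_iff.1 (inf_le_right.trans (cent_anti hA))
  have n1 : ∀ {A}, A ≤ (P : Subgroup G) → A ≤ 𝐍(U) := fun hA => (hc' hA).trans (cent_le_norm' _)
  have ab : ∀ {A}, A < (P : Subgroup G) → IsMulCommutative (U ⊔ A : Subgroup G) := fun {A} hA =>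
    le_centralizer_iff_isMulCommutative.1 (by
      rw [Amb.cent_sup]
      exact sup_le (le_inf (hU.trans (hF.trans (cent_anti hU))) (le_centralizer_iff.1 (hc' hA.le)))
        (le_inf (hc' hA.le) (le_centralizer_iff_isMulCommutative.2 (k4 A hA).isMulCommutative)))
  have cd : ∀ {A}, A ≤ (P : Subgroup G) → Nat.card (U ⊔ A : Subgroup G) = Nat.card U * Nat.card A :=
    fun hA => Core.card_sup_of_disjoint (n1 hA) ((hd hA).mono_left hU)
  have i1 : ∀ {A}, A ≤ (P : Subgroup G) → (U ⊔ A) ⊓ fittingSubgroup G = U := fun hA =>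
    le_antisymm (fun x hx => by
      obtain ⟨u, hu, a, ha, rfl⟩ := (Core.mem_sup_of_le_normalizer (n1 hA)).1 hx.1
      rwa [disjoint_def.1 (hd hA) ((mul_mem_cancel_left (hU hu)).1 hx.2) ha, mul_one])
      (le_inf le_sup_left hU)
  obtain ⟨g, hg⟩ := hB _ _ (ab h1) (ab h2) (by rw [cd hHT, cd hKT, e])
  replace hg : cj g (U ⊔ H) = U ⊔ K := hg
  have nm : ∀ (N : Subgroup G) [N.Normal], cj g N = N := fun N _ =>
    cj_eq_of_mem_normalizer (le_normalizer_of_normal (mem_top g))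
  have hg2 : cj g U = U := by
    have := cj_inf g (U ⊔ H) (fittingSubgroup G)
    rwa [i1 hHT, hg, nm (fittingSubgroup G), i1 hKT] at this
  refine ⟨g, cj_eq_self_iff.1 (eq_of_le_of_card_le (relIndex_eq_one.1
    (Nat.eq_one_iff_not_exists_prime_dvd.2 fun s hs => ?_)) (card_cj _ _).ge),
    (eq_of_le_of_card_le ?_ (by rw [card_cj, e])).symm⟩
  · haveI := Fact.mk hs
    refine Core.not_dvd_relIndex_of_forall_isPGroup_le hs fun A hA pA => ?_
    have h3 : A ≤ cj g (V ⊓ pCore s G) := by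
      rw [cj_inf, nm (pCore s G)]
      exact le_inf hA (Core.le_pCore_of_le_fitting pA (hA.trans ((cj_mono g hV).trans (nm _).le)))
    refine h3.trans ?_
    by_cases k0 : V ⊓ pCore s G = ⊥
    · rw [k0, cj_bot]; exact bot_le
    rcases (inf_le_right : V ⊓ pCore s G ≤ _).eq_or_lt with k | k
    · rw [k, nm]; exact k.ge.trans inf_le_left
    refine (cj_mono g (le_inf inf_le_left (inf_le_right.trans (le_centralizer_iff.1 (cent_of_quat hB
      (h s hs) (fun e => k0 (by rw [← e, h0, inf_bot_eq])) (isSylowIn_top P) ε k0 k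
      (Amb.le_norm_inf hT.le le_normalizer_of_normal)))))).trans (hg2.le.trans inf_le_left)
  · have h4 : cj g H ≤ U ⊔ K := (cj_mono g le_sup_right).trans hg.le
    refine (isSylowIn_of_not_dvd le_sup_right pK fun k => ?_).le_of_le_normalizer'
      h4 ((P.2.to_le hHT).map _) (h4.trans
      (((le_centralizer_iff_isMulCommutative.2 (ab h2)).trans (cent_anti le_sup_right)).trans
        (cent_le_norm' _)))
    have h3 := Core.card_mul_relIndex (le_sup_right : K ≤ U ⊔ K)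
    rw [cd hKT, mul_comm (Nat.card U), Nat.mul_right_inj Nat.card_pos.ne'] at h3
    obtain ⟨x, hx, x2⟩ := exists_mem_orderOf_eq (h3 ▸ k)
    exact ne_one_of_orderOf_eq x2 (mem_bot.1 (h0 ▸ Core.le_pCore_of_le_fitting
      (.of_card (n := 1) (by rw [Nat.card_zpowers, x2, pow_one])) (zpowers_le.2 (hU hx)) (mem_zpowers x)))

end

theorem c0_of_pb (G : Type u) [Group G] [Finite G] : Group.IsSolvable G → PB G → C0 G := by
  refine Core.induction_on_card (P := fun G _ _ => Group.IsSolvable G → PB G → C0 G)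
    (fun G _ _ ih hs hB => ?_) G
  have ih' : ∀ (N : Subgroup G) [N.Normal], N ≠ ⊥ → C0 ((⊤ : Subgroup G) ⧸ N.subgroupOf ⊤) :=
    fun N _ h0 => ih _ (card_quot_lt h0 le_top) inferInstance (main G hB _ ((QuotientGroup.mk' _).comp
      (topEquiv (G := G)).symm.toMonoidHom) ((QuotientGroup.mk'_surjective _).comp
        topEquiv.symm.surjective) inferInstance (.inr hs))
  by_cases h0 : (⊤ : Subgroup G) = ⊥
  · exact fun H K _ => ⟨1, by rw [cj_one, eq_bot_iff.2 (le_top.trans h0.le : H ≤ ⊥),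
      eq_bot_iff.2 (le_top.trans h0.le : K ≤ ⊥)]⟩
  by_contra hn
  have h : ∀ q, q.Prime → EH q G := fun q hq k => by
    haveI := Fact.mk hq
    obtain ⟨N, t, _, h1, h2, ht, h3, -⟩ :=
      Core.exists_minimal_normal_elementary_le (pCore q G) inferInstance k
    haveI := Fact.mk ht
    have hP := Core.IsElementaryAbelian.isPGroup h3
    obtain rfl : t = q := by
      by_contra k
      exact h1 (disjoint_self.1 (IsPGroup.disjoint_of_ne t q k _ _ hP ((Core.pCore_isPGroup q).to_le h2)))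
    have h4 := (prime_or_hall h3 h1 (fun x => mem_of_pow hB h1 h3) fun x hx V hV e => by
      obtain ⟨g, hg⟩ := hB (zpowers x) V inferInstance (Core.isMulCommutative_of_le h3.1 hV) (by
        rw [Nat.card_zpowers, hx, e])
      exact ⟨g, hg.symm⟩).resolve_left fun k =>
        hn (lift_prime k (fun x => mem_of_pow hB h1 h3) (ih' N h1))
    rw [← le_antisymm h2 ((syl_of_cop h1 hP h4).le_of_le_normalizer' le_top (Core.pCore_isPGroup t)
      le_normalizer_of_normal)]
    exact ⟨h3, h4⟩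
  have hF : fittingSubgroup G ≤ 𝐂(fittingSubgroup G) := by
    have : ∀ A : Subgroup G, (∀ s, s.Prime → A ≤ 𝐂(pCore s G)) → fittingSubgroup G ≤ 𝐂(A) :=
      fun A k => Core.fitting_eq_iSup_pCore.le.trans (iSup_le fun s => le_centralizer_iff.1 (k s s.2))
    refine this _ fun s hs => this _ fun t ht => ?_
    haveI := Fact.mk hs; haveI := Fact.mk ht
    by_cases k : s = t
    · subst k
      by_cases k : pCore s G = ⊥
      · rw [k]; exact bot_le
      · exact le_centralizer_iff_isMulCommutative.2 (h s hs k).1.1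
    · exact Core.pCore_le_centralizer_pCore k
  have nd : ∀ p, p.Prime → pCore p G ≠ ⊥ → ¬ p ∣ (fittingSubgroup G).index := fun p hp k => by
    haveI := Fact.mk hp
    have := (syl_of_cop k (Core.pCore_isPGroup p) (h p hp k).2).not_dvd_of_le (Core.pCore_le_fitting p)
    rwa [relIndex_top_right] at this
  have hH : (Nat.card (fittingSubgroup G)).Coprime (fittingSubgroup G).index :=
    Nat.coprime_of_dvd fun p hp k => nd p hp fun e => by
      haveI := Fact.mk hp
      obtain ⟨x, hx, x2⟩ := exists_mem_orderOf_eq k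
      exact ne_one_of_orderOf_eq x2 (mem_bot.1 (e ▸ Core.le_pCore_of_le_fitting (.of_card (n := 1)
        (by rw [Nat.card_zpowers, x2, pow_one])) (zpowers_le.2 hx) (mem_zpowers x)))
  haveI := (nontrivial_iff_ne_bot ⊤).2 h0
  haveI : Nontrivial G := topEquiv.injective.nontrivial
  have hD : ∀ p, p.Prime → D1 p G := fun p hp H K pH pK e => by
    haveI := Fact.mk hp
    by_cases k : pCore p G = ⊥
    · have k2 : ∀ A : Subgroup G, IsPGroup p A → A ⊓ fittingSubgroup G = ⊥ := fun A hA =>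
        le_bot_iff.1 (k ▸ Core.le_pCore_of_le_fitting (hA.to_le inf_le_left) inf_le_right)
      refine lift hF ((k2 K pK).trans (k2 H pH).symm) e
        (.inr (hH.coprime_dvd_right (relIndex_dvd_index_of_normal _ _))) ?_
      rw [k2 H pH, normalizer_eq_top]
      exact ih' _ Core.fitting_ne_bot
    have k2 : ∀ A : Subgroup G, IsPGroup p A → IsMulCommutative A := fun A hA =>
      Core.isMulCommutative_of_le (h p hp k).1.1 ((syl_of_cop k (Core.pCore_isPGroup p)
        (h p hp k).2).le_of_le_normalizer' le_top hA le_normalizer_of_normal)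
    obtain ⟨g, hg⟩ := hB H K (k2 H pH) (k2 K pK) e
    exact ⟨g, hg.symm⟩
  refine hn (lift_hall hF hH (fun V W hV hW e => ?_) fun V hV => ?_)
  · have := le_centralizer_iff_isMulCommutative.1 hF
    obtain ⟨g, hg⟩ := hB V W (Core.isMulCommutative_of_le this hV) (Core.isMulCommutative_of_le this hW) e
    exact ⟨g, hg.symm⟩
  have c1 : ∀ p, p.Prime → pCore p G ≠ ⊥ → Cy p (𝐍(V) ⧸ (fittingSubgroup G).subgroupOf _) :=
    fun p hp k Q hQ => by
      haveI := Fact.mk hp
      rw [eq_bot_of_not_dvd hQ le_top fun e => nd p hp k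
        ((card_top (G := 𝐍(V) ⧸ (fittingSubgroup G).subgroupOf _) ▸ e).trans
          (relIndex_dvd_index_of_normal _ _))]
      infer_instance
  have c2 : ∀ p, p.Prime → p ≠ 2 → Cy p (𝐍(V) ⧸ (fittingSubgroup G).subgroupOf _) := fun p hp p2 => by
    haveI := Fact.mk hp
    by_cases k : pCore p G = ⊥
    · refine ((Cy.of_sylow fun P => ?_).sub _).map _ (QuotientGroup.mk'_surjective _)
      rcases S4020.result hD P with k' | k' | ⟨⟨e⟩⟩
      exacts [k', cyc_of_elem hB h k k', absurd ((Nat.prime_dvd_prime_iff_eq hp Nat.prime_two).1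
        (hp.dvd_of_dvd_pow (n := 3) (by
          have := Core.prime_dvd_card_of_isPGroup P.2 ((nontrivial_iff_ne_bot _).1 e.symm.injective.nontrivial)
          rwa [Nat.card_congr e.toEquiv, Nat.card_eq_fintype_card, QuaternionGroup.card] at this))) p2]
    · exact c1 p hp k
  refine c0_of_cy _ inferInstance (fun p hp => ?_) 2 c2
  haveI := Fact.mk hp
  by_cases p2 : p = 2
  · subst p2
    by_cases k : pCore 2 G = ⊥
    · exact (d1_two hB h k hD hF hV).map _ (QuotientGroup.mk'_surjective _)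
    · exact (c1 2 hp k).d1
  · exact (c2 p hp p2).d1

end Cfsg.Agent.DP
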