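import Mathlib
import Cfsg.Agent.DP.Main
import Cfsg.Agent.DP.SolB
import Cfsg.Agent.H2.Frobenius
import Cfsg.Agent.BG.Rank2

/-! Elementary abelian normal Sylow subgroups on whose subgroups of each order the group is transitive. -/

set_option autoImplicit false
set_option linter.unusedSectionVars false

namespace Cfsg.Agent.DP

open Subgroup Cfsg.Agent.GW Cfsg.Agent.LocalEven Cfsg.Agent.BG Cfsg.Agent.Gs Cfsg.Agent.Classical
open scoped commutatorElement

variable {G : Type*} [Group G] [Finite G] {p n : ℕ} {P : Subgroup G}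

theorem not_81 [Group.IsSolvable G] [P.Normal] (hP : Nat.card P = 81) (hC : 𝐂(P) ≤ P) :
    ¬ 65 ∣ Nat.card G := fun h => by
  haveI := Fact.mk Nat.prime_five
  haveI : Fact (Nat.Prime 13) := ⟨by norm_num⟩
  have fx : ∀ (r : ℕ) [Fact r.Prime] (Q : Subgroup G), r ≠ 3 → IsPGroup r Q → Q ≠ ⊥ →
      ∃ j < 4, Nat.card (P ⊓ 𝐂(Q) : Subgroup G) = 3 ^ j ∧ 81 ≡ 3 ^ j [MOD r] := fun r _ Q hr hQ h0 => by
    obtain ⟨j, hj, e⟩ := (Nat.dvd_prime_pow Nat.prime_three).1
      (show _ ∣ 3 ^ 4 from hP ▸ card_dvd_of_le (inf_le_left : P ⊓ 𝐂(Q) ≤ P))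
    refine ⟨j, lt_of_le_of_ne hj fun k => h0 ?_, e,
      hP ▸ e ▸ Transfer.card_modEq_card_inf_centralizer hQ le_normalizer_of_normal⟩
    have h1 := (le_centralizer_iff.1 ((eq_of_le_of_card_le inf_le_left (by rw [e, k, hP]; rfl)).ge.trans
      (inf_le_right : P ⊓ 𝐂(Q) ≤ _))).trans hC
    exact eq_bot_of_not_dvd hQ h1 fun k => hr ((Nat.prime_dvd_prime_iff_eq Fact.out Nat.prime_three).1
      ((Fact.out : r.Prime).dvd_of_dvd_pow (n := 4) (k.trans hP.dvd)))
  have f5 : ∀ y : G, orderOf y = 5 → P ⊓ 𝐂(zpowers y) = ⊥ := fun y hy => by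
    obtain ⟨j, hj, e, k⟩ := fx 5 (zpowers y) (by norm_num) (.of_card (n := 1) (by simp [hy]))
      (zpowers_ne_bot.2 (ne_one_of_orderOf_eq hy))
    refine card_eq_one.1 (e.trans ?_)
    interval_cases j <;> first | rfl | exact absurd k (by decide)
  have key : ∀ (Q : Subgroup G) (y : G), IsPGroup 13 Q → Q ≠ ⊥ → orderOf y = 5 → y ∉ 𝐍(Q) :=
    fun Q y hQ h0 hy hn => by
      obtain ⟨j, hj, e, k⟩ := fx 13 Q (by norm_num) hQ h0
      obtain rfl : j = 1 := by interval_cases j <;> first | rfl | exact absurd k (by decide)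
      have h1 := Transfer.card_modEq_card_inf_centralizer (q := 5) (A := zpowers y) (Q := P ⊓ 𝐂(Q))
        (.of_card (n := 1) (by simp [hy])) (Amb.le_norm_inf le_normalizer_of_normal
          ((zpowers_le.2 hn).trans (Amb.norm_le_norm_cent _)))
      rw [e, inf_right_comm, f5 y hy, bot_inf_eq, card_bot] at h1
      exact absurd h1 (by decide)
  obtain ⟨H, hH⟩ := Core.exists_isPiHall (G := G) {5, 13}
  have hd : ∀ r : ℕ, r.Prime → r ∈ ({5, 13} : Set ℕ) → r ∣ 65 → r ∣ Nat.card H := fun r hr h1 h2 =>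
    ((Nat.Prime.dvd_mul hr).1 (H.card_mul_index ▸ h2.trans h)).resolve_right (hH.2 r hr h1)
  obtain ⟨y, hy, y5⟩ := exists_mem_orderOf_eq (hd 5 Fact.out (by simp) (by norm_num))
  obtain ⟨x, hx, x13⟩ := exists_mem_orderOf_eq (hd 13 Fact.out (by simp) (by norm_num))
  obtain ⟨E, r, h1, h2, h3, hr, h4, -⟩ := Core.exists_minimal_invariant_elementary_le H H le_normalizer
    inferInstance fun k => ne_one_of_orderOf_eq y5 (mem_bot.1 (k ▸ hy))
  haveI := Fact.mk hr
  have h5 := Core.IsElementaryAbelian.isPGroup h4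
  rcases hH.1 r hr ((Core.prime_dvd_card_of_isPGroup h5 h2).trans (card_dvd_of_le h3)) with rfl | rfl
  swap
  · exact key E y h5 h2 y5 (h1 hy)
  obtain ⟨m, hm⟩ := h5.exists_card_eq
  have h6 : Nat.card E ∣ 80 := by
    have := H2.card_dvd_sub_one_of_semiregular (H := E) (K := P) le_normalizer_of_normal
      (fun a ha a1 => cent_zpowers a ▸ f5 a (orderOf_eq_prime (h4.2 a ha) a1) :
        ∀ a ∈ E, a ≠ 1 → P ⊓ cz a = ⊥)
    rwa [hP] at this
  have h7 : Nat.card E = 5 := by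
    rw [hm] at h6 ⊢
    rcases m with _ | _ | m
    · exact absurd (card_eq_one.1 hm) h2
    · rfl
    · exact absurd ((show 25 ∣ 5 ^ (m + 1 + 1) from ⟨5 ^ m, by ring⟩).trans h6) (by decide)
  have h8 := Transfer.card_modEq_card_inf_centralizer (q := 13) (A := zpowers x) (Q := E)
    (.of_card (n := 1) (by simp [x13])) (zpowers_le.2 (h1 hx))
  have h9 := card_dvd_of_le (inf_le_left : E ⊓ 𝐂(zpowers x) ≤ E)
  rw [h7] at h8 h9
  obtain ⟨a, ha, a5⟩ := exists_mem_orderOf_eq (p := 5) (H := E ⊓ 𝐂(zpowers x))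
    (((Nat.dvd_prime Nat.prime_five).1 h9).resolve_left fun k => by
      rw [k] at h8; exact absurd h8 (by decide)).symm.dvd
  exact key (zpowers x) a (.of_card (n := 1) (by simp [x13]))
    (zpowers_ne_bot.2 (ne_one_of_orderOf_eq x13)) a5 (cent_le_norm' _ ha.2)

theorem arith {b c : ℕ} (hp : 3 ≤ p) (hn : 4 ≤ n) (hb : b ∣ n)
    (h : c * (p ^ n - p) = b * ((p ^ 2 - 1) * (p ^ 2 - p))) : p = 3 ∧ n = 5 ∧ c = 1 ∧ b = 5 := by
  have b0 := Nat.pos_of_dvd_of_pos hb (by omega)
  have bn := Nat.le_of_dvd (by omega) hb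
  obtain ⟨q, rfl⟩ : ∃ q, p = q + 1 := ⟨p - 1, by omega⟩
  have e1 : (q + 1) ^ 2 - 1 = q * (q + 2) := by rw [Nat.sub_eq_iff_eq_add (by nlinarith)]; ring
  have e2 : (q + 1) ^ 2 - (q + 1) = q * (q + 1) := by rw [Nat.sub_eq_iff_eq_add (by nlinarith)]; ring
  have c0 : 0 < c := Nat.pos_of_ne_zero fun k => by
    rw [k, e1, e2, zero_mul] at h
    exact absurd h.symm (by have : 0 < q := by omega
                            positivity)
  rcases hn.eq_or_lt with rfl | hn
  · exfalso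
    have e3 : (q + 1) ^ 4 - (q + 1) = q * (q + 1) * (q ^ 2 + 3 * q + 3) := by
      rw [Nat.sub_eq_iff_eq_add (by nlinarith [pow_pos (show 0 < q + 1 by omega) 3, pow_succ (q + 1) 3])]
      ring
    rw [e1, e2, e3] at h
    have h1 : c * (q ^ 2 + 3 * q + 3) = b * (q * (q + 2)) :=
      Nat.eq_of_mul_eq_mul_left (show 0 < q * (q + 1) by have : 0 < q := by omega
                                                         positivity) (by linarith)
    have h2 : c < b := by nlinarith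
    have h3 : q ≤ 11 := by
      interval_cases b <;> interval_cases c <;> nlinarith
    interval_cases b <;> interval_cases c <;> interval_cases q <;> omega
  have h1 := odd_bound hp hn bn
  obtain rfl : c = 1 := by
    by_contra k
    have := Nat.mul_le_mul_right ((q + 1) ^ n - (q + 1)) (show 2 ≤ c by omega)
    omega
  rcases (show 5 ≤ n from hn).eq_or_lt with rfl | hn
  · have e3 : (q + 1) ^ 5 - (q + 1) = q * (q + 2) * (q + 1) * (q ^ 2 + 2 * q + 2) := by
      rw [Nat.sub_eq_iff_eq_add (by nlinarith [pow_pos (show 0 < q + 1 by omega) 4, pow_succ (q + 1) 4])]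
      ring
    rw [e1, e2, e3] at h
    have h1 : q ^ 2 + 2 * q + 2 = b * q :=
      Nat.eq_of_mul_eq_mul_left (show 0 < q * (q + 2) * (q + 1) by
        have : 0 < q := by omega
        positivity) (by linarith)
    have h3 : q ≤ 3 := by nlinarith
    have := (Nat.dvd_prime Nat.prime_five).1 hb
    interval_cases q <;> omega
  exfalso
  obtain ⟨k, rfl⟩ : ∃ k, n = k + 6 := ⟨n - 6, by omega⟩
  have h2 : k + 7 ≤ (q + 1) ^ (k + 2) := by
    clear * - hp
    induction k with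
    | zero => rw [zero_add, zero_add]; nlinarith
    | succ k ih => rw [show k + 1 + 2 = k + 2 + 1 from rfl, pow_succ]; nlinarith
  have h3 : q * (q + 2) * (q * (q + 1)) < (q + 1) ^ 4 := by nlinarith [pow_pos (show 0 < q + 1 by omega) 2]
  have h4 : (k + 7) * (q + 1) ^ 4 ≤ (q + 1) ^ (k + 6) := by
    calc _ ≤ (q + 1) ^ (k + 2) * (q + 1) ^ 4 := by gcongr
      _ = _ := by ring
  have h5 : q + 1 ≤ (q + 1) ^ 4 := Nat.le_self_pow (by norm_num) _
  rw [e1, e2] at h
  have h6 : b * (q * (q + 2) * (q * (q + 1))) < (k + 6) * (q + 1) ^ 4 :=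
    lt_of_le_of_lt (Nat.mul_le_mul_right _ bn) (Nat.mul_lt_mul_of_pos_left h3 (by omega))
  rw [add_mul _ 7] at h4
  rw [add_mul] at h6
  omega

theorem exists_inv_sub [Fact p.Prime] [P.Normal] (hE : IsElementaryAbelian p P)
    (h2 : p ^ 2 ≤ Nat.card P) {t : G} (ht : t * t = 1) :
    ∃ V, V ≤ P ∧ Nat.card V = p ^ 2 ∧ t ∈ 𝐍(V) := by
  have k : ∀ V : Subgroup G, cj t V ≤ V → t ∈ 𝐍(V) := fun V h =>
    cj_eq_self_iff.1 (eq_of_le_of_card_le h (card_cj _ _).ge)
  by_cases h : ∀ v ∈ P, t * v * t⁻¹ ∈ zpowers v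
  · obtain ⟨V, hV⟩ := Sylow.exists_subgroup_card_pow_prime_of_le_card Fact.out
      (Core.IsElementaryAbelian.isPGroup hE) h2
    exact ⟨_, map_subtype_le V, (card_map_subtype _).trans hV, k _ (cj_le_iff'.2 fun v hv =>
      zpowers_le.2 hv (h v (map_subtype_le V hv)))⟩
  push Not at h
  obtain ⟨v, hv, h⟩ := h
  have hw : t * v * t⁻¹ ∈ P := Normal.conj_mem inferInstance v hv t
  refine ⟨zpowers v ⊔ zpowers (t * v * t⁻¹), sup_le (zpowers_le.2 hv) (zpowers_le.2 hw),
    card_sup_pair (hE.2 v hv) (hE.2 _ hw) (Core.comm_of_isMulCommutative hE.1 hv hw)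
      (fun e => h (by simp [e])) h, k _ ?_⟩
  rw [cj_sup, cj, cj, MonoidHom.map_zpowers, MonoidHom.map_zpowers]
  refine sup_le le_sup_right (zpowers_le.2 (mem_sup_left ?_))
  have : t * (t * v * t⁻¹) * t⁻¹ = (t * t) * v * (t * t)⁻¹ := by group
  exact show t * (t * v * t⁻¹) * t⁻¹ ∈ _ by simp [this, ht]

theorem odd_case [Group.IsSolvable G] [Fact p.Prime] (hD : D1 p G) [P.Normal] (hS : IsSylowIn p P ⊤)
    (hE : IsElementaryAbelian p P) (hC : 𝐂(P) ≤ P) (hn : Nat.card P = p ^ n) (n3 : 3 ≤ n) (p2 : p ≠ 2) :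
    n = 3 ∧ ∃ f : G →* semiaffineGroup (GaloisField p n), Function.Injective f := by
  have hp : p.Prime := Fact.out
  have p3 : 3 ≤ p := by have := hp.two_le; omega
  have ho : ¬ p ∣ P.index := relIndex_top_right P ▸ hS.not_dvd
  have hcop : (Nat.card P).Coprime P.index := by
    rw [hn]; exact ((Nat.Prime.coprime_iff_not_dvd hp).2 ho).pow_left n
  have n2 : p ^ 2 ≤ Nat.card P := hn ▸ Nat.pow_le_pow_right hp.pos (by omega)
  have ab := le_centralizer_iff_isMulCommutative.2 hE.1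
  obtain ⟨X, hX⟩ := exists_right_complement'_of_coprime hcop
  have cX : Nat.card X = P.index := hX.symm.index_eq_card.symm
  obtain ⟨s, hs, e1⟩ := hD.count hS hE.2 ab n2
  rw [le_antisymm hC ab, normalizer_eq_top, relIndex_top_right] at hs
  have hG := P.card_mul_index
  letI : CommGroup P := { (inferInstance : Group P) with mul_comm := hE.1.is_comm.comm }
  haveI : Nontrivial P := Finite.one_lt_card_iff_nontrivial.1 (hn ▸ Nat.one_lt_pow (by omega) hp.one_lt)
  haveI : Group.IsSolvable (center (MulAut P) ⊔ (MulAut.conjNormal (H := P)).range : Subgroup _) :=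
    Amb.solvable_sup (Group.isSolvable_of_comm fun a b => Subtype.ext (mem_center_iff.1 b.2 a)) (Group.isSolvable_of_surjective
      (MonoidHom.rangeRestrict_surjective _)) le_normalizer_of_normal
  have o : ∀ v : P, v ≠ 1 → orderOf (v : G) = p := fun v hv =>
    orderOf_eq_prime (hE.2 _ v.2) fun e => hv (Subtype.ext e)
  rcases lin (p := p) (fun v => Subtype.ext (hE.2 _ v.2))
    (center (MulAut P) ⊔ (MulAut.conjNormal (H := P)).range) (fun v w hv hw => by
      obtain ⟨g, hg⟩ := hD.conj (o v hv) (o w hw)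
      obtain ⟨k, hk⟩ := (mem_powers_iff_mem_zpowers.2 hg :)
      have h1 : (Nat.card P).Coprime k := hn ▸ ((Nat.Prime.coprime_iff_not_dvd hp).2 fun ⟨c, hc⟩ => hw
        (Subtype.ext (by simpa [hc, pow_mul, hE.2 _ v.2, mul_assoc, eq_comm (a := (1 : G)),
          mul_inv_eq_one] using congrArg (fun x => g * x * g⁻¹) hk))).pow_left n
      let μ : MulAut P := .ofBijective (powMonoidHom k) (powCoprime h1).bijective
      refine ⟨MulAut.conjNormal g * μ, mul_mem (mem_sup_right ⟨g, rfl⟩) (mem_sup_left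
        (mem_center_iff.2 fun α => MulEquiv.ext fun u => map_pow α u k)), Subtype.ext ?_⟩
      have : ((μ v : P) : G) = g⁻¹ * w * g := hk
      simp [this, mul_assoc]) with ⟨F, _, _, e, he, k⟩ | k
  swap
  · exfalso
    have h1 := Nat.pow_le_pow_right hp.pos n3
    have h2 := Nat.pow_le_pow_left p3 3
    have h3 : p ∣ p ^ n := dvd_pow_self p (by omega)
    have k2 : ∀ r : ℕ, r.Prime → ∀ j, p ^ n = r ^ j → p = r := fun r hr j e =>
      (Nat.prime_dvd_prime_iff_eq hp hr).1 (hp.dvd_of_dvd_pow (e ▸ h3))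
    simp only [Set.mem_insert_iff, Set.mem_singleton_iff, hn] at k
    rcases k with k | k | k | k | k | k
    · omega
    · omega
    · obtain rfl := k2 7 (by norm_num) 2 k; omega
    · obtain rfl := k2 11 (by norm_num) 2 k; omega
    · obtain rfl := k2 23 (by norm_num) 2 k; omega
    obtain rfl := k2 3 (by norm_num) 4 k
    rw [hn, k] at e1
    obtain rfl : s = 130 := by omega
    exact not_81 (hn.trans k) hC (((show 65 ∣ 130 by norm_num).trans hs).trans (index_dvd_card _))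
  obtain ⟨f, hf⟩ := emb_galois hX hC (by omega) hn e he fun x _ => k _ (mem_sup_right ⟨x, rfl⟩)
  refine ⟨by_contra fun n4 => ?_, f, hf⟩
  obtain ⟨a, b, h1, h3, h5, -⟩ := exists_card (GaloisField.card p n (by omega))
    (f := f.comp X.subtype) (hf.comp X.subtype_injective)
  rw [cX] at h5
  have ha : a ∣ p ^ n - 1 := (Nat.Coprime.pow_right n ((Nat.Prime.coprime_iff_not_dvd hp).2
    fun k => ho (h5 ▸ k.mul_right b)).symm).dvd_of_dvd_mul_right h1
  have h6 : P.index ∣ (p ^ n - 1) * b := h5 ▸ Nat.mul_dvd_mul_right ha b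
  obtain ⟨c, hc⟩ := hs.trans h6
  rw [hn] at e1 hG
  have h7 : 0 < p ^ n - 1 := Nat.sub_pos_of_lt (Nat.one_lt_pow (by omega) hp.one_lt)
  obtain ⟨rfl, rfl, rfl, rfl⟩ := arith (c := c) p3 (by omega) h3 (Nat.eq_of_mul_eq_mul_left h7 (by
    rw [← mul_assoc _ b, hc, mul_left_comm, ← e1]; ring))
  obtain rfl : s = 1210 := by omega
  have h8 : P.index = 1210 := Nat.dvd_antisymm h6 hs
  obtain ⟨t, ht⟩ := exists_prime_orderOf_dvd_card' (G := G) 2 (by rw [← hG, h8]; norm_num)
  obtain ⟨V, hV, h9, h10⟩ := exists_inv_sub hE n2 (t := t) (by rw [← sq, ← ht, pow_orderOf_eq_one])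
  have h11 := card_sub2 hE.2 ab
  rw [← h9, hD.orbit hS ab hV, h9, hn, normalizer_eq_top (H := P), relIndex_top_right] at h11
  have h12 := 𝐍(V).card_mul_index
  have h13 := ht ▸ 𝐍(V).orderOf_dvd_natCard h10
  rw [show 𝐍(V).index = 1210 by omega] at h12
  omega

theorem syl_case [Group.IsSolvable G] [Fact p.Prime] (hD : D1 p G) (hO : pPrimeCore p G = ⊥) [P.Normal]
    (hS : IsSylowIn p P ⊤) (hE : IsElementaryAbelian p P) (hn : Nat.card P = p ^ n) (n3 : 3 ≤ n) :
    (n = 3 ∧ (∃ f : G →* semiaffineGroup (GaloisField p 3), Function.Injective f) ∧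
      (p = 2 → Nonempty (G ≃* semiaffineGroup (GaloisField 2 3)) ∨
        Nonempty (G ≃* affineGroup (GaloisField 2 3)))) ∨
    (n = 5 ∧ p = 2 ∧ Nonempty (G ≃* semiaffineGroup (GaloisField 2 5))) := by
  have hP : pCore p G = P := le_antisymm (hS.le_of_le_normalizer' le_top (Core.pCore_isPGroup p)
    le_normalizer_of_normal) (Core.le_pCore inferInstance hS.pgrp)
  by_cases p2 : p = 2
  swap
  · obtain ⟨rfl, h⟩ := odd_case hD hS hE (hP ▸ Core.centralizer_pCore_le p hO) hn n3 p2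
    exact .inl ⟨rfl, h, fun k => absurd k p2⟩
  subst p2
  have h8 : 2 ^ 3 ∣ Nat.card G := (hn ▸ pow_dvd_pow 2 n3).trans (card_subgroup_dvd_card P)
  have k : ∀ j m, Nat.card G = 2 ^ j * m → ¬ 2 ∣ m → n = j := fun j m h1 h2 =>
    Nat.pow_right_injective le_rfl (hn.symm.trans (GLBasic.sylow_card_of_eq hS.toSylowTop h1 h2))
  have c3 := GaloisField.card 2 3 (by norm_num)
  rcases solv_case hD hO (fun x j hx => (sq x).symm.trans (hE.2 x
      (hS.mem_of_mem_normalizer (mem_top x) hx (le_normalizer_of_normal (mem_top x)))))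
    ((show 4 ∣ 2 ^ 3 by norm_num).trans h8) (fun e => by
      rw [← hP, e, card_bot] at hn
      exact absurd hn (Nat.one_lt_pow (by omega) one_lt_two).ne) with
    ⟨⟨e⟩⟩ | ⟨-, ⟨⟨e⟩⟩ | ⟨⟨e⟩⟩ | ⟨⟨e⟩⟩⟩
  · rw [Nat.card_congr e.toEquiv, nat_card_alternatingGroup] at h8
    exact absurd h8 (by simp [Nat.factorial])
  · exact .inl ⟨k 3 7 (by rw [Nat.card_congr e.toEquiv, card_affine, c3]; rfl) (by norm_num),
      ⟨(inclusion affine_le).comp e.toMonoidHom, (inclusion_injective affine_le).comp e.injective⟩,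
      fun _ => .inr ⟨e⟩⟩
  · exact .inl ⟨k 3 21 (by rw [Nat.card_congr e.toEquiv, card_semi c3]; rfl) (by norm_num),
      ⟨e.toMonoidHom, e.injective⟩, fun _ => .inl ⟨e⟩⟩
  · exact .inr ⟨k 5 155 (by
      rw [Nat.card_congr e.toEquiv, card_semi (GaloisField.card 2 5 (by norm_num))]; rfl) (by norm_num),
      rfl, ⟨e⟩⟩

end Cfsg.Agent.DP
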